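import Mathlib
import Cfsg.Agent.ZGrp.FeitLocal
import Cfsg.Agent.S0881
import Cfsg.Agent.CharBasics.Central
import Cfsg.Agent.CharBasics.LinearOver

/-!
The principal series of a simple Zassenhaus group with odd two-point stabiliser.
-/

set_option autoImplicit false

namespace CfsgLib.ZGrp

open CfsgLib.CharBasics CfsgLib.Exceptional MulAction
open scoped ComplexConjugate

universe u v

variable {G : Type u} {Ω : Type v} [Group G] [Fintype G] [MulAction G Ω] [Fintype Ω]
variable (hZ : Cfsg.IsZassenhausGroup G Ω) [IsSimpleGroup G] {a b : Ω} (hab : a ≠ b)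
  (hodd : Odd (Nat.card (pst G a b))) (hlt : Nat.card (pst G a b) < Fintype.card Ω - 2)
  (H : Subgroup G) (hHa : H ≤ stabilizer G a) (hHcard : Nat.card H + 1 = Fintype.card Ω)
  (hHfix : ∀ u ∈ H, u ≠ 1 → ∀ c : Ω, u • c = c → c = a)
include hZ hab hodd hlt hHa hHcard hHfix

theorem theta_set [Fintype (Cfsg.IrrCharacter G)] :
    ∃ T : Finset (Cfsg.IrrCharacter G), 2 * T.card + 1 = Nat.card (pst G a b) ∧
      ∀ θ ∈ T, (θ : G → ℂ) 1 = (Fintype.card Ω : ℂ) ∧ ∀ u ∈ H, u ≠ 1 → (θ : G → ℂ) u = 1 := by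
  classical
  haveI : Fintype ↥(stabilizer G a) := Fintype.ofFinite _
  set K : Subgroup ↥(stabilizer G a) := H.subgroupOf (stabilizer G a) with hK
  haveI hKn : K.Normal := ⟨fun w hw x => Subgroup.mem_subgroupOf.2
    (conj_kernel hZ hab H hHa hHcard hHfix (mem_stabilizer_iff.1 x.2) (Subgroup.mem_subgroupOf.1 hw))⟩
  have hC : ∀ n ∈ K, n ≠ 1 → Subgroup.centralizer ({n} : Set ↥(stabilizer G a)) ≤ K := fun n hn hn1 x hx =>
    Subgroup.mem_subgroupOf.2 (kernel_centralizer hZ hab H hHa hHcard hHfix _ (Subgroup.mem_subgroupOf.1 hn)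
      (fun e => hn1 (Subtype.ext e)) (Subgroup.mem_centralizer_singleton_iff.2
        (congrArg Subtype.val (Subgroup.mem_centralizer_singleton_iff.1 hx))))
  have hcy : ∀ x ∈ pst G a b, ∀ y ∈ pst G a b, x * y = y * x := fun x hx y hy =>
    (commute_pst_simple hZ hab hodd hab hx hy).eq
  have hcomm : ∀ x y : ↥(stabilizer G a), x * y * x⁻¹ * y⁻¹ ∈ K := fun x y => Subgroup.mem_subgroupOf.2
    (stab_commutator hZ hab H hHa hHcard hHfix hcy (mem_stabilizer_iff.1 x.2) (mem_stabilizer_iff.1 y.2))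
  obtain ⟨u₀, hu₀, hu₀1⟩ := kernel_nontrivial hZ hab H hHa hHcard hHfix
  have hK0 : K ≠ ⊥ := fun h => hu₀1 (congrArg Subtype.val
    ((Subgroup.eq_bot_iff_forall _).1 h ⟨u₀, hHa hu₀⟩ (Subgroup.mem_subgroupOf.2 hu₀)))
  haveI : Fintype (Cfsg.IrrCharacter ↥(stabilizer G a)) := Fintype.ofFinite _
  have hKH : Nat.card K = Nat.card H := Nat.card_congr (Subgroup.subgroupOfEquivOfLe hHa).toEquiv
  have hindex : K.index = Nat.card (pst G a b) := by
    refine Nat.eq_of_mul_eq_mul_left (Nat.card_pos (α := K)) ?_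
    rw [Subgroup.card_mul_index, hKH, card_stab hZ hab, ← hHcard, Nat.add_sub_cancel]
  obtain ⟨hRcard, hRlin⟩ := nonrel_linear K hC hcomm hK0
  set R := Finset.univ.filter fun χ : Cfsg.IrrCharacter ↥(stabilizer G a) => ¬ Rel K (χ : ↥(stabilizer G a) → ℂ) with hR
  set R' := R.erase (oneChar : Cfsg.IrrCharacter ↥(stabilizer G a)) with hR'
  have hone : (oneChar : Cfsg.IrrCharacter ↥(stabilizer G a)) ∈ R :=
    Finset.mem_filter.2 ⟨Finset.mem_univ _, fun ⟨_, _, h⟩ => h rfl⟩
  have hμ : ∀ μ ∈ R', Cfsg.IsIrrCharacter G (Cfsg.indFun (stabilizer G a) (μ : ↥(stabilizer G a) → ℂ)) ∧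
      ∀ u ∈ H, u ≠ 1 → Cfsg.indFun (stabilizer G a) (μ : ↥(stabilizer G a) → ℂ) u = 1 := by
    intro μ hμ
    obtain ⟨hne, hμR⟩ := Finset.mem_erase.1 hμ
    have hnr := (Finset.mem_filter.1 hμR).2
    have h1 : (μ : ↥(stabilizer G a) → ℂ) 1 = 1 := by
      rw [apply_one (isCharacter_of_irr μ.2), hRlin μ hnr, Nat.cast_one]
    exact Cfsg.Agent.S0881.result hZ hab hodd hlt H hHa hHcard hHfix _ ⟨isCharacter_of_irr μ.2, h1⟩
      (fun u hu => (not_rel hnr (Subgroup.mem_subgroupOf.2 hu)).trans h1) (fun e => hne (Subtype.ext e))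
  let F : Cfsg.IrrCharacter ↥(stabilizer G a) → Cfsg.IrrCharacter G := fun μ =>
    if h : μ ∈ R' then ⟨_, (hμ μ h).1⟩ else oneChar
  have hF : ∀ μ ∈ R', (F μ : G → ℂ) = Cfsg.indFun (stabilizer G a) (μ : ↥(stabilizer G a) → ℂ) := fun μ h => by
    simp only [F, dif_pos h]
  have hidx : (stabilizer G a).index = Fintype.card Ω := by
    refine Nat.eq_of_mul_eq_mul_left (Nat.card_pos (α := stabilizer G a)) ?_
    rw [Subgroup.card_mul_index, card_group hZ hab, card_stab hZ hab, mul_comm]
  refine ⟨R'.image F, ?_, fun θ hθ => ?_⟩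
  swap
  · obtain ⟨μ, hμ', rfl⟩ := Finset.mem_image.1 hθ
    rw [hF μ hμ']
    refine ⟨?_, (hμ μ hμ').2⟩
    rw [indFun_apply_one, hidx, apply_one (isCharacter_of_irr μ.2),
      hRlin μ (Finset.mem_filter.1 (Finset.mem_of_mem_erase hμ')).2, Nat.cast_one, mul_one]
  have hconjR : ∀ μ ∈ R', (⟨_, irr_conjFun μ.2⟩ : Cfsg.IrrCharacter ↥(stabilizer G a)) ∈ R' ∧
      (⟨_, irr_conjFun μ.2⟩ : Cfsg.IrrCharacter ↥(stabilizer G a)) ≠ μ := by
    intro μ hμ'
    obtain ⟨hne, hμR⟩ := Finset.mem_erase.1 hμ'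
    have hnr := (Finset.mem_filter.1 hμR).2
    refine ⟨Finset.mem_erase.2 ⟨fun e => hne (Subtype.ext (funext fun x => ?_)),
      Finset.mem_filter.2 ⟨Finset.mem_univ _, fun ⟨k, hk, hk'⟩ => hk' (congrArg conj (not_rel hnr hk))⟩⟩, fun e => ?_⟩
    · have h := congrFun (congrArg Subtype.val e) x
      exact (starRingEnd ℂ).injective (h.trans (map_one _).symm)
    -- a real linear character is trivial
    refine hne (Subtype.ext (funext fun x => ?_))
    have hreal : ∀ y, conj ((μ : ↥(stabilizer G a) → ℂ) y) = (μ : ↥(stabilizer G a) → ℂ) y :=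
      congrFun (congrArg Subtype.val e)
    have hmul : ∀ y z, (μ : ↥(stabilizer G a) → ℂ) (y * z) = (μ : ↥(stabilizer G a) → ℂ) y * (μ : ↥(stabilizer G a) → ℂ) z :=
      Cfsg.Agent.S4811.apply_mul_of_degree_one (isCharacter_of_irr μ.2) (hRlin μ hnr)
    have h1 : (μ : ↥(stabilizer G a) → ℂ) 1 = 1 := by
      rw [apply_one (isCharacter_of_irr μ.2), hRlin μ hnr, Nat.cast_one]
    let f : ↥(stabilizer G a) →* ℂ := { toFun := μ, map_one' := h1, map_mul' := hmul }
    show f x = 1
    have hsq : f x * f x = 1 := by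
      have h2 : f x * f x⁻¹ = 1 := by rw [← map_mul, mul_inv_cancel, map_one]
      have h3 : f x⁻¹ = f x := (apply_inv (isCharacter_of_irr μ.2) x).trans (hreal x)
      rwa [h3] at h2
    have hpow : f x ^ K.index = 1 := by
      rw [← map_pow]
      exact (not_rel hnr (K.pow_index_mem x)).trans h1
    obtain ⟨j, hj⟩ : Odd K.index := hindex ▸ hodd
    rw [hj, pow_succ, pow_mul, pow_two, hsq, one_pow, one_mul] at hpow
    exact hpow
  -- the induced characters are real
  have hreal : ∀ μ ∈ R', ∀ g : G, conj ((F μ : G → ℂ) g) = (F μ : G → ℂ) g := by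
    intro μ hμ' g
    have hθc := isCharacter_of_irr (F μ).2
    by_cases hg : ∃ x : G, x⁻¹ * g * x ∈ stabilizer G a
    swap
    · push Not at hg
      rw [hF μ hμ', Cfsg.indFun, Finset.sum_eq_zero (fun x _ => extendByZero_of_not_mem _ _ (hg x)), mul_zero, map_zero]
    obtain ⟨x, hx⟩ := hg
    have hgm : (F μ : G → ℂ) g = (F μ : G → ℂ) (x⁻¹ * g * x) := (apply_conj' hθc x g).symm
    rw [hgm]
    set m := x⁻¹ * g * x with hm
    by_cases hall : ∀ c : Ω, m • c = c → c = a
    · by_cases hm1 : m = 1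
      · rw [hm1, apply_one hθc, Complex.conj_natCast]
      · rw [hF μ hμ', (hμ μ hμ').2 m (mem_kernel hZ hab H hHa hHcard hHfix (mem_stabilizer_iff.1 hx) hall) hm1, map_one]
    · push Not at hall
      obtain ⟨c, hc, hca⟩ := hall
      obtain ⟨s, hs1, hs2⟩ := exists_move hZ hca.symm hca
      have hinv := swap_inverts_simple hZ hab hodd hca.symm hs1 hs2 (mem_pst.2 ⟨mem_stabilizer_iff.1 hx, hc⟩)
      rw [← apply_inv hθc, ← hinv]
      exact isClassFunction hθc m s
  have hfib : ∀ θ ∈ R'.image F, (R'.filter fun μ => F μ = θ).card = 2 := by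
    intro θ hθ
    obtain ⟨μ, hμ', rfl⟩ := Finset.mem_image.1 hθ
    refine le_antisymm ?_ ?_
    · set θ := (F μ : G → ℂ) with hθ'
      have hθc : Cfsg.IsCharacter G θ := isCharacter_of_irr (F μ).2
      have hres := isCharacter_restrict hθc (stabilizer G a)
      choose c hc using fun ν : Cfsg.IrrCharacter ↥(stabilizer G a) => classInner_character_nat hres ν
      have hsum : ∑ ν ∈ R, c ν = 2 := by
        have hkey : ∀ x : ↥(stabilizer G a), ∑ ν ∈ R, (ν : ↥(stabilizer G a) → ℂ) x =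
            if x ∈ K then (K.index : ℂ) else 0 := by
          intro x
          split_ifs with hx
          · rw [← hRcard, Finset.sum_congr rfl (g := fun _ => (1 : ℂ)) (fun ν hν => ?_), Finset.sum_const, nsmul_eq_mul, mul_one]
            rw [not_rel (Finset.mem_filter.1 hν).2 hx, apply_one (isCharacter_of_irr ν.2),
              hRlin ν (Finset.mem_filter.1 hν).2, Nat.cast_one]
          · have h := sum_mul_degree (G := ↥(stabilizer G a)) (g := x) (fun e => hx (e ▸ K.one_mem))
            rw [sum_split K, Finset.sum_eq_zero (fun χ hχ => by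
              rw [(rel_induced K hC χ.2 (Finset.mem_filter.1 hχ).2).1 x hx, mul_zero]), zero_add] at h
            rw [← h]
            exact Finset.sum_congr rfl fun ν hν => by rw [hRlin ν (Finset.mem_filter.1 hν).2, Nat.cast_one, one_mul]
        have h2 : ((∑ ν ∈ R, c ν : ℕ) : ℂ) = 2 := by
          rw [Nat.cast_sum, Finset.sum_congr rfl (fun ν _ => (hc ν).symm)]
          simp only [classInner_eq, ← Finset.mul_sum]
          rw [Finset.sum_comm]
          simp only [← Finset.mul_sum, ← map_sum, hkey]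
          rw [Finset.sum_congr rfl (g := fun x : ↥(stabilizer G a) => (K.index : ℂ) * (if x ∈ K then θ x else 0))
            (fun x _ => by split_ifs <;> simp [mul_comm]), ← Finset.mul_sum, ← Finset.sum_filter,
            ← Finset.add_sum_erase _ _ (Finset.mem_filter.2 ⟨Finset.mem_univ _, K.one_mem⟩ : (1 : ↥(stabilizer G a)) ∈ _),
            Finset.sum_congr rfl (g := fun _ => (1 : ℂ)) (fun x hx => ?_), Finset.sum_const, nsmul_eq_mul, mul_one,
            Finset.card_erase_of_mem (Finset.mem_filter.2 ⟨Finset.mem_univ _, K.one_mem⟩ : (1 : ↥(stabilizer G a)) ∈ _)]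
          · have hfilt : (Finset.univ.filter fun x : ↥(stabilizer G a) => x ∈ K).card = Nat.card H := by
              rw [← hKH, Nat.card_eq_fintype_card, Fintype.card_subtype]
            have hθ1 : θ ((1 : ↥(stabilizer G a)) : G) = (Nat.card H : ℂ) + 1 := by
              rw [Subgroup.coe_one, hθ', hF μ hμ', indFun_apply_one, hidx, apply_one (isCharacter_of_irr μ.2),
                hRlin μ (Finset.mem_filter.1 (Finset.mem_of_mem_erase hμ')).2, ← hHcard]
              push_cast; ring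
            rw [hfilt, hθ1, Nat.cast_sub Nat.card_pos, ← K.card_mul_index, hKH, Nat.cast_mul, Nat.cast_one]
            have : (Nat.card H : ℂ) ≠ 0 := Nat.cast_ne_zero.2 Nat.card_pos.ne'
            have : (K.index : ℂ) ≠ 0 := Nat.cast_ne_zero.2 Subgroup.index_ne_zero_of_finite
            field_simp
            ring
          · obtain ⟨hx1, hxK⟩ := Finset.mem_erase.1 hx
            rw [hθ', hF μ hμ']
            exact (hμ μ hμ').2 _ (Subgroup.mem_subgroupOf.1 (Finset.mem_filter.1 hxK).2) (fun e => hx1 (Subtype.ext e))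
        exact_mod_cast h2
      have hone' : ∀ ν ∈ R'.filter (fun ν => F ν = F μ), c ν = 1 := by
        intro ν hν
        obtain ⟨hνR, hνF⟩ := Finset.mem_filter.1 hν
        have h := hc ν
        rw [classInner_comm, ← classInner_indFun (stabilizer G a) _ (isClassFunction hθc), ← hF ν hνR, hνF, ← hθ',
          classInner_self (F μ).2, map_one] at h
        exact_mod_cast h.symm
      calc (R'.filter fun ν => F ν = F μ).card = ∑ ν ∈ R'.filter (fun ν => F ν = F μ), c ν := by
            rw [Finset.card_eq_sum_ones]; exact Finset.sum_congr rfl fun ν hν => (hone' ν hν).symm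
        _ ≤ ∑ ν ∈ R, c ν := Finset.sum_le_sum_of_subset ((Finset.filter_subset _ _).trans (Finset.erase_subset _ _))
        _ = 2 := hsum
    · obtain ⟨hmem, hne⟩ := hconjR μ hμ'
      refine Finset.one_lt_card.2 ⟨_, Finset.mem_filter.2 ⟨hmem, Subtype.ext (funext fun g => ?_)⟩, μ,
        Finset.mem_filter.2 ⟨hμ', rfl⟩, hne⟩
      rw [hF _ hmem, ← hreal μ hμ' g, hF μ hμ']
      simp only [Cfsg.indFun, map_mul, map_inv₀, map_natCast, map_sum]
      congr 1
      refine Finset.sum_congr rfl fun x _ => ?_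
      by_cases hx : x⁻¹ * g * x ∈ stabilizer G a
      · rw [extendByZero_coe _ _ ⟨_, hx⟩, extendByZero_coe _ _ ⟨_, hx⟩]; rfl
      · rw [extendByZero_of_not_mem _ _ hx, extendByZero_of_not_mem _ _ hx, map_zero]
  have hcount := Finset.card_eq_sum_card_image F R'
  have hR'card : R'.card = K.index - 1 := by rw [hR', Finset.card_erase_of_mem hone, hRcard]
  rw [Finset.sum_congr rfl hfib, Finset.sum_const, smul_eq_mul, hR'card, hindex] at hcount
  have := hodd.pos
  rw [mul_comm]
  omega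

end CfsgLib.ZGrp
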