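import Mathlib
import Cfsg.Agent.ZGrp.FeitTheta
import Cfsg.Agent.ZGrp.FeitNum
import Cfsg.Agent.S0884
import Cfsg.Agent.OddCoh.Main
import Cfsg.Agent.Exceptional.CoherentTI

/-!
Feit's inequality for simple Zassenhaus groups with odd two-point stabiliser.
-/

set_option autoImplicit false

namespace CfsgLib.ZGrp

open CfsgLib.CharBasics CfsgLib.Exceptional CfsgLib.FeitCoh MulAction
open scoped ComplexConjugate

universe u v

variable {G : Type u} {Ω : Type v} [Group G] [Fintype G] [MulAction G Ω] [Fintype Ω]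

set_option maxHeartbeats 1000000 in
theorem feit_simple (hZ : Cfsg.IsZassenhausGroup G Ω) [IsSimpleGroup G] {a b : Ω} (hab : a ≠ b)
    (hodd : Odd (Nat.card (pst G a b))) (H : Subgroup G) (hHa : H ≤ stabilizer G a)
    (hHcard : Nat.card H + 1 = Fintype.card Ω) (hHfix : ∀ u ∈ H, u ≠ 1 → ∀ c : Ω, u • c = c → c = a)
    (hlt : 2 * Nat.card (pst G a b) < Nat.card H - 1)
    (hbad : ¬ (IsPGroup 2 H ∧ ¬ IsMulCommutative H ∧
      Nat.card (Abelianization H) ≤ 4 * Nat.card (pst G a b) ^ 2 + 1)) : False := by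
  classical
  set e := Nat.card (pst G a b) with he
  set h := Nat.card H with hh
  have he3 : 3 ≤ e := three_le_card_pst hZ hab hodd
  have hlt' : e < Fintype.card Ω - 2 := by omega
  haveI : Fintype ↥(Subgroup.normalizer (H : Set G)) := Fintype.ofFinite _
  set K' : Subgroup ↥(Subgroup.normalizer (H : Set G)) := H.subgroupOf (Subgroup.normalizer (H : Set G)) with hK'
  have hNorm := normalizer_kernel hZ hab H hHa hHcard hHfix
  have hTI := kernel_ti hZ hab H hHa hHcard hHfix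
  have hC := kernel_centralizer hZ hab H hHa hHcard hHfix
  have hC' := centralizer_le_in_normalizer H hC
  have hKH : Nat.card K' = h := Nat.card_congr (Subgroup.subgroupOfEquivOfLe Subgroup.le_normalizer).toEquiv
  have hidx : K'.index = e := by
    refine Nat.eq_of_mul_eq_mul_left (Nat.card_pos (α := K')) ?_
    rw [Subgroup.card_mul_index, hKH, hNorm, card_stab hZ hab, ← hHcard, Nat.add_sub_cancel]
  have hcy : ∀ x ∈ pst G a b, ∀ y ∈ pst G a b, x * y = y * x := fun x hx y hy =>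
    (commute_pst_simple hZ hab hodd hab hx hy).eq
  have hstab : ∀ x : ↥(Subgroup.normalizer (H : Set G)), (x : G) • a = a := fun x =>
    mem_stabilizer_iff.1 (hNorm ▸ x.2)
  have hcomm : ∀ x y : ↥(Subgroup.normalizer (H : Set G)), x * y * x⁻¹ * y⁻¹ ∈ K' := fun x y =>
    Subgroup.mem_subgroupOf.2 (stab_commutator hZ hab H hHa hHcard hHfix hcy (hstab x) (hstab y))
  obtain ⟨k₀, hk₀, hk₀1⟩ := kernel_nontrivial hZ hab H hHa hHcard hHfix
  have hH0 : H ≠ ⊥ := fun h0 => hk₀1 ((Subgroup.eq_bot_iff_forall _).1 h0 k₀ hk₀)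
  have hHlt : H < Subgroup.normalizer (H : Set G) := by
    refine lt_of_le_of_ne Subgroup.le_normalizer fun e0 => ?_
    obtain ⟨⟨d, hd⟩, hd1⟩ := Subgroup.ne_bot_iff_exists_ne_one.1 (pst_ne_bot hZ hab)
    have hdH : d ∈ H := by rw [e0, hNorm]; exact hd.1
    exact hab (hHfix d hdH (fun e1 => hd1 (Subtype.ext e1)) b (mem_pst.1 hd).2).symm
  set kk : ↥(Subgroup.normalizer (H : Set G)) := ⟨k₀, Subgroup.le_normalizer hk₀⟩ with hkk
  have hkkK : kk ∈ K' := Subgroup.mem_subgroupOf.2 hk₀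
  have hkk1 : kk ≠ 1 := fun e1 => hk₀1 (congrArg Subtype.val e1)
  have hK0 : K' ≠ ⊥ := fun e0 => hkk1 ((Subgroup.eq_bot_iff_forall _).1 e0 kk hkkK)
  -- coherence
  set S := {χ : ↥(Subgroup.normalizer (H : Set G)) → ℂ | Cfsg.IsIrrCharacter _ χ ∧ Rel K' χ} with hS
  have hcoh : Cfsg.IsCoherent S ({1}ᶜ : Set ↥(Subgroup.normalizer (H : Set G)))
      (fun α => Cfsg.indFun (Subgroup.normalizer (H : Set G)) α) := by
    refine CfsgLib.OddCoh.coherent_ti H hTI hC hH0 hHlt ?_ fun h2 hna => ?_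
    · rw [← hh, ← hK', hidx]; omega
    · rw [← hK', hidx]
      exact not_le.1 fun hle => hbad ⟨h2, hna, hle⟩
  obtain ⟨-, σ, hσ, hσag⟩ := hcoh
  have hσ' : Cfsg.IsLinearIsometryOn ((Submodule.span ℤ S : Submodule ℤ (↥(Subgroup.normalizer (H : Set G)) → ℂ)) :
      Set (↥(Subgroup.normalizer (H : Set G)) → ℂ)) σ := hσ
  -- the relevant characters
  haveI : Fintype (Cfsg.IrrCharacter ↥(Subgroup.normalizer (H : Set G))) := Fintype.ofFinite _
  haveI : Fintype (Cfsg.IrrCharacter G) := Fintype.ofFinite _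
  haveI := Fintype.ofFinite K'
  haveI : Fintype (Cfsg.IrrCharacter K') := Fintype.ofFinite _
  set FS := Finset.univ.filter fun χ : Cfsg.IrrCharacter ↥(Subgroup.normalizer (H : Set G)) =>
    Rel K' (χ : ↥(Subgroup.normalizer (H : Set G)) → ℂ) with hFS
  have hFSmem : ∀ χ ∈ FS, (χ : ↥(Subgroup.normalizer (H : Set G)) → ℂ) ∈ S := fun χ hχ =>
    ⟨χ.2, (Finset.mem_filter.1 hχ).2⟩
  haveI : Nontrivial K' := (Subgroup.nontrivial_iff_ne_bot _).2 hK0
  haveI : Group.IsNilpotent K' := isNilpotent_kernel K' hC' (fun e0 => hHlt.not_ge fun x hx =>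
    Subgroup.mem_subgroupOf.1 (e0 ▸ Subgroup.mem_top (⟨x, hx⟩ : ↥(Subgroup.normalizer (H : Set G)))))
  obtain ⟨β, hβ1, hβd⟩ := exists_linear_ne_one ↥K'
  obtain ⟨hηirr, hηrel⟩ := induced_irr K' hC' β.2 hβ1
  set η : Cfsg.IrrCharacter ↥(Subgroup.normalizer (H : Set G)) := ⟨_, hηirr⟩ with hηdef
  have hηF : η ∈ FS := Finset.mem_filter.2 ⟨Finset.mem_univ _, hηrel⟩
  have hpη : pdeg K' (η : ↥(Subgroup.normalizer (H : Set G)) → ℂ) = 1 := by
    rw [← hβd]; exact pdeg_induced K' hC' β.2 hβ1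
  let pf : Cfsg.IrrCharacter ↥(Subgroup.normalizer (H : Set G)) → ℕ := fun χ =>
    pdeg K' (χ : ↥(Subgroup.normalizer (H : Set G)) → ℂ)
  have hpf1 : ∀ χ ∈ FS, (χ : ↥(Subgroup.normalizer (H : Set G)) → ℂ) 1 = ((e * pf χ : ℕ) : ℂ) := fun χ hχ => by
    rw [← hidx]; exact (pdeg_spec K' hC' χ.2 (Finset.mem_filter.1 hχ).2).2.2.1
  have hid : e * ∑ χ ∈ FS, pf χ ^ 2 + 1 = h := by
    rw [← hidx, ← hKH]
    exact rel_degree_identity K' hC' hK0 pf fun χ hχ => (pdeg_spec K' hC' χ.2 hχ).2.2.1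
  have hFS2 : ∃ χ ∈ FS, χ ≠ η := by
    by_contra hc
    push Not at hc
    have : ∑ χ ∈ FS, pf χ ^ 2 = 1 := by
      rw [Finset.sum_eq_single_of_mem η hηF (fun χ hχ hne => absurd (hc χ hχ) hne)]
      show pdeg K' (η : ↥(Subgroup.normalizer (H : Set G)) → ℂ) ^ 2 = 1
      rw [hpη, one_pow]
    rw [this, mul_one] at hid
    omega
  obtain ⟨ξ, hξF, hξne⟩ := hFS2
  obtain ⟨hind, hind1⟩ := CfsgLib.OddCoh.ind_isometry H hTI hC (S := S) (fun χ hχ => hχ)
  obtain ⟨ε', hε', hεirr, hσinj⟩ := exists_sign (fun χ (hχ : χ ∈ S) => hχ.1)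
    ⟨_, hFSmem η hηF, _, hFSmem ξ hξF, fun e1 => hξne (Subtype.ext e1.symm)⟩ σ hσ
    (fun α hα h1 => by rw [hσag α (mem_on_one.2 ⟨hα, h1⟩)]; exact hind1 α (mem_on_one.2 ⟨hα, h1⟩))
  obtain ⟨ε, hεc, hε⟩ : ∃ ε : ℤ, ε' = (ε : ℂ) ∧ (ε = 1 ∨ ε = -1) := by
    rcases hε' with h0 | h0
    · exact ⟨1, by simp [h0], Or.inl rfl⟩
    · exact ⟨-1, by simp [h0], Or.inr rfl⟩
  subst hεc
  have hεε : (ε : ℂ) * ε = 1 := by rcases hε with h0 | h0 <;> simp [h0]
  let T : Cfsg.IrrCharacter ↥(Subgroup.normalizer (H : Set G)) → Cfsg.IrrCharacter G := fun χ =>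
    if hχ : χ ∈ FS then ⟨_, hεirr _ (hFSmem χ hχ)⟩ else oneChar
  have hT : ∀ χ ∈ FS, (T χ : G → ℂ) = (ε : ℂ) • σ χ := fun χ hχ => by simp only [T, dif_pos hχ]
  have hσT : ∀ χ ∈ FS, σ χ = (ε : ℂ) • (T χ : G → ℂ) := fun χ hχ => by
    rw [hT χ hχ, smul_smul, hεε, one_smul]
  have hTinj : Set.InjOn T ↑FS := fun χ hχ φ hφ e1 => by
    refine Subtype.ext (hσinj _ (hFSmem χ hχ) _ (hFSmem φ hφ) ?_)
    rw [hσT χ hχ, hσT φ hφ, e1]
  have hprop : ∀ χ ∈ FS, Cfsg.indFun (Subgroup.normalizer (H : Set G))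
      ((χ : ↥(Subgroup.normalizer (H : Set G)) → ℂ) - (pf χ : ℤ) • (η : ↥(Subgroup.normalizer (H : Set G)) → ℂ)) =
      σ χ - (pf χ : ℤ) • σ η ∧ (χ : ↥(Subgroup.normalizer (H : Set G)) → ℂ) - (pf χ : ℤ) • (η : ↥(Subgroup.normalizer (H : Set G)) → ℂ) ∈ Cfsg.zspanOn S ({1}ᶜ : Set ↥(Subgroup.normalizer (H : Set G))) := by
    intro χ hχ
    have hm1 : (χ : ↥(Subgroup.normalizer (H : Set G)) → ℂ) ∈ Submodule.span ℤ S := Submodule.subset_span (hFSmem χ hχ)
    have hm2 : (η : ↥(Subgroup.normalizer (H : Set G)) → ℂ) ∈ Submodule.span ℤ S := Submodule.subset_span (hFSmem η hηF)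
    have hmem : (χ : ↥(Subgroup.normalizer (H : Set G)) → ℂ) - (pf χ : ℤ) • (η : ↥(Subgroup.normalizer (H : Set G)) → ℂ) ∈
        Cfsg.zspanOn S ({1}ᶜ : Set ↥(Subgroup.normalizer (H : Set G))) :=
      mem_on_one.2 ⟨sub_mem (S := Submodule ℤ (↥(Subgroup.normalizer (H : Set G)) → ℂ)) hm1 (Submodule.smul_mem _ _ hm2),
        by simp only [Pi.sub_apply, ← Int.cast_smul_eq_zsmul ℂ, Pi.smul_apply, smul_eq_mul, hpf1 χ hχ, hpf1 η hηF]
           rw [show pf η = 1 from hpη]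
           push_cast; ring⟩
    refine ⟨?_, hmem⟩
    have h2 := hσag _ hmem
    beta_reduce at h2
    rw [← h2, iso_sub hσ' hm1 (Submodule.smul_mem _ _ hm2), iso_zsmul hσ' hm2]
  -- values
  have hval : ∀ ψ : Cfsg.IrrCharacter G, ∃ m : ℤ, ∀ k : ↥(Subgroup.normalizer (H : Set G)), (k : G) ∈ H → k ≠ 1 →
      (ψ : G → ℂ) k = ∑ χ ∈ FS, Cfsg.classInner (ψ : G → ℂ) (σ χ) * (χ : ↥(Subgroup.normalizer (H : Set G)) → ℂ) k + m :=
    fun ψ => coherent_values H hTI hC S rfl ⟨_, hFSmem η hηF⟩ σ hσ hσag (gen_of_character (isCharacter_of_irr ψ.2))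
  choose m hm using hval
  have hnon : ∀ ψ : Cfsg.IrrCharacter G, ψ ∉ FS.image T → ∀ u ∈ H, u ≠ 1 → (ψ : G → ℂ) u = (m ψ : ℂ) := by
    intro ψ hψ u hu hu1
    have h0 := hm ψ ⟨u, Subgroup.le_normalizer hu⟩ hu (fun e1 => hu1 (congrArg Subtype.val e1))
    rw [Finset.sum_eq_zero (fun χ hχ => ?_), zero_add] at h0
    · exact h0
    rw [hσT χ hχ, CfsgLib.Exceptional.classInner_smul_right, classInner_ne ψ.2 (T χ).2
      (fun e1 => hψ (Finset.mem_image.2 ⟨χ, hχ, (Subtype.ext e1).symm⟩)), mul_zero, zero_mul]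
  have hexc : ∀ χ ∈ FS, ∀ k : ↥(Subgroup.normalizer (H : Set G)), (k : G) ∈ H → k ≠ 1 →
      (T χ : G → ℂ) k = (ε : ℂ) * (χ : ↥(Subgroup.normalizer (H : Set G)) → ℂ) k + (m (T χ) : ℂ) := by
    intro χ hχ k hk hk1
    rw [hm (T χ) k hk hk1, Finset.sum_eq_single_of_mem χ hχ (fun φ hφ hne => ?_)]
    · rw [hσT χ hχ, CfsgLib.Exceptional.classInner_smul_right, classInner_self (T χ).2, map_intCast, mul_one]
    · rw [hσT φ hφ, CfsgLib.Exceptional.classInner_smul_right, classInner_ne (T χ).2 (T φ).2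
        (fun e1 => hne (hTinj hφ hχ (Subtype.ext e1).symm)), mul_zero, zero_mul]
  set β₀ : ℤ := m (T η) with hβ₀
  have hbp : ∀ χ ∈ FS, (m (T χ) : ℂ) = (pf χ : ℂ) * β₀ := by
    intro χ hχ
    obtain ⟨h1, hmem⟩ := hprop χ hχ
    obtain ⟨hcl, hsupp⟩ := rel_supp H hC (S := S) (fun φ hφ => hφ) hmem
    have hv := congrFun h1 k₀
    rw [show k₀ = ((kk : ↥(Subgroup.normalizer (H : Set G))) : G) from rfl,
      indFun_apply_of_mem (frobTI_setup H hTI) hcl hsupp kk ⟨hk₀, hk₀1⟩] at hv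
    simp only [Pi.sub_apply, ← Int.cast_smul_eq_zsmul ℂ, Pi.smul_apply, smul_eq_mul, hσT χ hχ, hσT η hηF,
      hexc χ hχ kk hk₀ hkk1, hexc η hηF kk hk₀ hkk1] at hv
    push_cast at hv
    rw [hβ₀]
    linear_combination -(ε : ℂ) * hv - ((m (T χ) : ℂ) - (pf χ : ℂ) * (m (T η) : ℂ)
      + (ε : ℂ) * ((χ : ↥(Subgroup.normalizer (H : Set G)) → ℂ) kk - (pf χ : ℂ) * (η : ↥(Subgroup.normalizer (H : Set G)) → ℂ) kk)) * hεε
  obtain ⟨D, hD0, hDη⟩ := degree_eq (T η)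
  have hTdeg : ∀ χ ∈ FS, (T χ : G → ℂ) 1 = (pf χ : ℂ) * D := by
    intro χ hχ
    obtain ⟨h1, hmem⟩ := hprop χ hχ
    have h2 := hind1 _ hmem
    rw [h1] at h2
    simp only [Pi.sub_apply, ← Int.cast_smul_eq_zsmul ℂ, Pi.smul_apply, smul_eq_mul, hσT χ hχ, hσT η hηF, hDη] at h2
    push_cast at h2
    linear_combination (ε : ℂ) * h2 - ((T χ : G → ℂ) 1 - (pf χ : ℂ) * D) * hεε
  have hsumχ : ∑ χ ∈ FS, (pf χ : ℂ) * (χ : ↥(Subgroup.normalizer (H : Set G)) → ℂ) kk = -1 := by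
    obtain ⟨-, h2, -⟩ := degree_sums K' hC' hK0
    have h3 := h2 kk hkkK hkk1
    rw [hidx] at h3
    have he0 : (e : ℂ) ≠ 0 := Nat.cast_ne_zero.2 (by omega)
    apply mul_left_cancel₀ he0
    rw [Finset.mul_sum, mul_neg, mul_one, ← h3]
    refine Finset.sum_congr rfl fun χ hχ => ?_
    rw [(pdeg_spec K' hC' χ.2 (Finset.mem_filter.1 hχ).2).2.2.2, hidx]
    push_cast; ring
  -- the principal series
  obtain ⟨Θ, hΘcard, hΘ⟩ := theta_set hZ hab hodd hlt' H hHa hHcard hHfix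
  have hΩ : (Fintype.card Ω : ℂ) = (h : ℂ) + 1 := by rw [← hHcard]; push_cast; rfl
  set U := Finset.univ \ (insert (oneChar : Cfsg.IrrCharacter G) (Θ ∪ FS.image T)) with hU
  have hconst : ∀ θ : Cfsg.IrrCharacter G, (∀ u ∈ H, u ≠ 1 → (θ : G → ℂ) u = 1) → θ ∉ FS.image T := by
    intro θ hθ hmemθ
    obtain ⟨χ, hχ, rfl⟩ := Finset.mem_image.1 hmemθ
    obtain ⟨ζ, hζ, hne⟩ : ∃ ζ ∈ FS, χ ≠ ζ := by
      by_cases h1 : χ = η
      · exact ⟨ξ, hξF, fun e1 => hξne (e1.symm.trans h1)⟩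
      · exact ⟨η, hηF, h1⟩
    obtain ⟨x, hx, y, hy, hx1, hy1, hxy⟩ := rel_not_const K' hC' χ.2 (Finset.mem_filter.1 hχ).2 ζ.2
      (Finset.mem_filter.1 hζ).2 (fun e1 => hne (Subtype.ext e1))
    apply hxy
    have e1 := (hexc χ hχ x hx hx1).symm.trans (hθ _ hx (fun e2 => hx1 (Subtype.ext e2)))
    have e2 := (hexc χ hχ y hy hy1).symm.trans (hθ _ hy (fun e2 => hy1 (Subtype.ext e2)))
    linear_combination (ε : ℂ) * (e1 - e2) - ((χ : ↥(Subgroup.normalizer (H : Set G)) → ℂ) x - (χ : ↥(Subgroup.normalizer (H : Set G)) → ℂ) y) * hεε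
  have hone : (oneChar : Cfsg.IrrCharacter G) ∉ Θ ∪ FS.image T := by
    rw [Finset.mem_union, not_or]
    refine ⟨fun h1 => ?_, hconst _ fun u _ _ => rfl⟩
    have h2 := (hΘ _ h1).1
    rw [show ((oneChar : Cfsg.IrrCharacter G) : G → ℂ) 1 = 1 from rfl, hΩ] at h2
    have : ((h : ℕ) : ℂ) = 0 := by linear_combination -h2
    rw [Nat.cast_eq_zero] at this
    omega
  have hdisj : Disjoint Θ (FS.image T) := Finset.disjoint_left.2 fun θ hθ => hconst θ (hΘ θ hθ).2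
  have hsplit : ∀ f : Cfsg.IrrCharacter G → ℂ, ∑ ψ, f ψ =
      f oneChar + (∑ θ ∈ Θ, f θ + ∑ χ ∈ FS, f (T χ)) + ∑ ψ ∈ U, f ψ := by
    intro f
    rw [← Finset.sum_sdiff (Finset.subset_univ (insert (oneChar : Cfsg.IrrCharacter G) (Θ ∪ FS.image T))), ← hU,
      Finset.sum_insert hone, Finset.sum_union hdisj, Finset.sum_image hTinj]
    ring
  choose dd hdd0 hdd using fun ψ : Cfsg.IrrCharacter G => degree_eq ψ
  have hUmem : ∀ ψ ∈ U, ψ ∉ FS.image T ∧ ψ ≠ oneChar := fun ψ hψ => by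
    have h1 := (Finset.mem_sdiff.1 hψ).2
    rw [Finset.mem_insert, Finset.mem_union, not_or, not_or] at h1
    exact ⟨h1.2.2, h1.1⟩
  have hHuniv : (Finset.univ : Finset H).card = h := by rw [Finset.card_univ, hh, Nat.card_eq_fintype_card]
  have hh2 : 2 ≤ h := by omega
  have hhp : 0 < h := by omega
  -- the degrees outside the exceptional part
  have hdk : ∀ ψ ∈ U, ∃ k : ℤ, 1 ≤ k ∧ (dd ψ : ℤ) = m ψ + k * h := by
    intro ψ hψ
    obtain ⟨hψT, hψ1⟩ := hUmem ψ hψ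
    have hc := isCharacter_of_irr ψ.2
    obtain ⟨n, hn⟩ := classInner_characters_nat (isCharacter_restrict hc H)
      (isCharacter_of_irr (isIrrCharacter_one (G := H)))
    rw [classInner_one, ← Finset.add_sum_erase _ _ (Finset.mem_univ (1 : H)),
      Finset.sum_congr rfl (g := fun _ => (m ψ : ℂ)) (fun (w : H) hw => hnon ψ hψT w w.2
        (fun e1 => Finset.ne_of_mem_erase hw (Subtype.ext e1))), Finset.sum_const,
      Finset.card_erase_of_mem (Finset.mem_univ _), hHuniv, ← hh, nsmul_eq_mul, Subgroup.coe_one, hdd,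
      Nat.cast_sub hhp, Nat.cast_one] at hn
    have hh0 : (h : ℂ) ≠ 0 := Nat.cast_ne_zero.2 hhp.ne'
    have hz : ((dd ψ : ℤ) : ℂ) = ((m ψ + ((n : ℤ) - m ψ) * h : ℤ) : ℂ) := by
      push_cast
      field_simp at hn
      linear_combination hn
    have hz' : (dd ψ : ℤ) = m ψ + ((n : ℤ) - m ψ) * h := by exact_mod_cast hz
    refine ⟨(n : ℤ) - m ψ, ?_, hz'⟩
    have hle : m ψ ≤ (dd ψ : ℤ) := by
      have h1 := norm_le hc k₀
      rw [hnon ψ hψT k₀ hk₀ hk₀1, Complex.norm_intCast] at h1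
      have h2 : Cfsg.charDegree (ψ : G → ℂ) = dd ψ := by
        have := (apply_one hc).symm.trans (hdd ψ)
        exact_mod_cast this
      rw [h2] at h1
      have h3 : ((m ψ : ℤ) : ℝ) ≤ (((dd ψ : ℕ) : ℤ) : ℝ) := le_trans (le_abs_self _) (by exact_mod_cast h1)
      exact_mod_cast h3
    have hne : m ψ ≠ (dd ψ : ℤ) := by
      intro e1
      have hker : k₀ ∈ charKer (ψ : G → ℂ) hc := by
        show (ψ : G → ℂ) k₀ = (ψ : G → ℂ) 1
        rw [hnon ψ hψT k₀ hk₀ hk₀1, hdd, e1, Int.cast_natCast]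
      rcases Subgroup.Normal.eq_bot_or_eq_top (charKer_normal hc) with h1 | h1
      · rw [h1, Subgroup.mem_bot] at hker; exact hk₀1 hker
      · have hall : ∀ g : G, (ψ : G → ℂ) g = (dd ψ : ℂ) := fun g => by
          have : g ∈ charKer (ψ : G → ℂ) hc := h1 ▸ Subgroup.mem_top g
          rw [← hdd ψ]; exact this
        have hz := sum_irr_eq_zero ψ.2 (fun e2 => hψ1 (Subtype.ext e2))
        rw [Finset.sum_congr rfl (fun g _ => hall g), Finset.sum_const, nsmul_eq_mul, mul_eq_zero] at hz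
        rcases hz with h2 | h2
        · exact absurd h2 (Nat.cast_ne_zero.2 (Finset.card_ne_zero.2 Finset.univ_nonempty))
        · exact (hdd0 ψ).ne' (by exact_mod_cast h2)
    by_contra hk
    push Not at hk
    have : ((n : ℤ) - m ψ) * h ≤ 0 := mul_nonpos_of_nonpos_of_nonneg (by omega) (by omega)
    omega
  choose! kf hk1 hkd using hdk
  set P : ℤ := ((∑ χ ∈ FS, pf χ ^ 2 : ℕ) : ℤ) with hP
  have hPC : (P : ℂ) = ∑ χ ∈ FS, (pf χ : ℂ) ^ 2 := by rw [hP]; push_cast; rfl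
  -- counting classes
  have hUcard : (e : ℤ) + 1 ≤ 2 * (U.card : ℤ) := by
    haveI : Finite (ConjClasses G) := Quotient.finite _
    haveI : Finite (ConjClasses ↥(Subgroup.normalizer (H : Set G))) := Quotient.finite _
    haveI := Fintype.ofFinite (ConjClasses G)
    set P0 := Finset.univ.filter fun C : ConjClasses G => ∀ g : G, ConjClasses.mk g = C → g ∉ H
    set P1 := Finset.univ.filter fun C : ConjClasses G => ∃ u ∈ H, u ≠ 1 ∧ ConjClasses.mk u = C
    have h0 : e ≤ P0.card := by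
      have := Cfsg.Agent.S0884.result hZ hab h e hHcard.symm he.symm hodd hlt H hHa hHcard hHfix
      rwa [Nat.card_eq_fintype_card, Fintype.card_subtype] at this
    have h1 : FS.card ≤ P1.card := by
      refine (card_rel_le K' hC' hcomm hK0).trans ?_
      haveI := Fintype.ofFinite (ConjClasses ↥(Subgroup.normalizer (H : Set G)))
      rw [Nat.card_eq_fintype_card, Fintype.card_subtype]
      refine Finset.card_le_card_of_injOn (ConjClasses.map (Subgroup.normalizer (H : Set G)).subtype) ?_ ?_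
      · intro C hC0
        obtain ⟨k, hk, hk1', rfl⟩ := (Finset.mem_filter.1 (Finset.mem_coe.1 hC0)).2
        exact Finset.mem_coe.2 (Finset.mem_filter.2 ⟨Finset.mem_univ _, (k : G), hk,
          fun e1 => hk1' (Subtype.ext e1), rfl⟩)
      · intro C hC0 C' hC0' heq
        obtain ⟨k, hk, hk1', rfl⟩ := (Finset.mem_filter.1 (Finset.mem_coe.1 hC0)).2
        obtain ⟨l, hl, -, rfl⟩ := (Finset.mem_filter.1 (Finset.mem_coe.1 hC0')).2
        obtain ⟨g, hg⟩ := isConj_iff.1 (ConjClasses.mk_eq_mk_iff_isConj.1 (show ConjClasses.mk (k : G) = ConjClasses.mk (l : G) from heq))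
        have hgN : g ∈ Subgroup.normalizer (H : Set G) := by
          by_contra hgN
          exact hk1' (Subtype.ext (hTI g hgN k hk (hg ▸ hl)))
        exact ConjClasses.mk_eq_mk_iff_isConj.2 (isConj_iff.2 ⟨⟨g, hgN⟩, Subtype.ext hg⟩)
    have hd1 : Disjoint P0 P1 := Finset.disjoint_left.2 fun C hC0 hC1 => by
      obtain ⟨u, hu, -, rfl⟩ := (Finset.mem_filter.1 hC1).2
      exact (Finset.mem_filter.1 hC0).2 u rfl hu
    have h1not : ConjClasses.mk (1 : G) ∉ P0 ∪ P1 := by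
      rw [Finset.mem_union, not_or]
      refine ⟨fun hC0 => (Finset.mem_filter.1 hC0).2 1 rfl H.one_mem, fun hC1 => ?_⟩
      obtain ⟨u, -, hu1, heq⟩ := (Finset.mem_filter.1 hC1).2
      exact hu1 (isConj_one_left.1 (ConjClasses.mk_eq_mk_iff_isConj.1 heq))
    have h2 := Finset.card_le_univ (insert (ConjClasses.mk (1 : G)) (P0 ∪ P1))
    rw [Finset.card_insert_of_notMem h1not, Finset.card_union_of_disjoint hd1, ← Nat.card_eq_fintype_card, ← card_irr,
      Nat.card_eq_fintype_card] at h2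
    have h3 : U.card + (1 + (Θ.card + FS.card)) = Fintype.card (Cfsg.IrrCharacter G) := by
      rw [← Finset.card_univ, ← Finset.card_sdiff_add_card_eq_card (Finset.subset_univ (insert (oneChar : Cfsg.IrrCharacter G) (Θ ∪ FS.image T))),
        ← hU, Finset.card_insert_of_notMem hone, Finset.card_union_of_disjoint hdisj, Finset.card_image_of_injOn hTinj]
      ring
    have h4 : e + 1 ≤ 2 * U.card := by omega
    exact_mod_cast h4
  have hΘC : 2 * (Θ.card : ℂ) = (e : ℂ) - 1 := by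
    have h' : ((2 * Θ.card + 1 : ℕ) : ℂ) = (e : ℂ) := by exact_mod_cast hΘcard
    push_cast at h'; linear_combination h'
  have hk₀ne : k₀ ≠ 1 := hk₀1
  -- first orthogonality
  have hQ : 2 * (∑ ψ ∈ U, m ψ ^ 2 + β₀ ^ 2 * P - 2 * ε * β₀) = (e : ℤ) - 1 := by
    have hL := sum_col kk kk
    rw [if_pos (IsConj.refl _)] at hL
    have hG := sum_col k₀ k₀
    rw [if_pos (IsConj.refl _)] at hG
    have hcent : Nat.card (Subgroup.centralizer ({kk} : Set ↥(Subgroup.normalizer (H : Set G)))) =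
        Nat.card (Subgroup.centralizer ({k₀} : Set G)) := by
      refine Nat.card_congr
        { toFun := fun x => ⟨((x : ↥(Subgroup.normalizer (H : Set G))) : G), Subgroup.mem_centralizer_singleton_iff.2
            (congrArg Subtype.val (Subgroup.mem_centralizer_singleton_iff.1 x.2))⟩
          invFun := fun x => ⟨⟨(x : G), Subgroup.le_normalizer (hC k₀ hk₀ hk₀1 x.2)⟩, Subgroup.mem_centralizer_singleton_iff.2
            (Subtype.ext (Subgroup.mem_centralizer_singleton_iff.1 x.2))⟩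
          left_inv := fun _ => rfl
          right_inv := fun _ => rfl }
    rw [hcent] at hL
    rw [sum_split K', Finset.sum_congr rfl (g := fun _ => (1 : ℂ))
      (s₁ := Finset.univ.filter fun χ : Cfsg.IrrCharacter ↥(Subgroup.normalizer (H : Set G)) => ¬ Rel K' (χ : ↥(Subgroup.normalizer (H : Set G)) → ℂ))
      (fun χ hχ => ?_), Finset.sum_const, (nonrel_linear K' hC' hcomm hK0).1, nsmul_eq_mul, mul_one, hidx] at hL
    swap
    · rw [not_rel (Finset.mem_filter.1 hχ).2 hkkK, apply_one (isCharacter_of_irr χ.2),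
        (nonrel_linear K' hC' hcomm hK0).2 χ (Finset.mem_filter.1 hχ).2, Nat.cast_one, map_one, mul_one]
    rw [hsplit, Finset.sum_congr rfl (g := fun _ => (1 : ℂ)) (s₁ := Θ) (fun θ hθ => by rw [(hΘ θ hθ).2 k₀ hk₀ hk₀1, map_one, mul_one]),
      Finset.sum_congr rfl (s₁ := U) (fun ψ hψ => by rw [hnon ψ (hUmem ψ hψ).1 k₀ hk₀ hk₀1, map_intCast]),
      show ((oneChar : Cfsg.IrrCharacter G) : G → ℂ) k₀ = 1 from rfl, map_one, mul_one, Finset.sum_const, nsmul_eq_mul, mul_one] at hG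
    have hexp : ∑ χ ∈ FS, (T χ : G → ℂ) k₀ * conj ((T χ : G → ℂ) k₀) =
        ∑ χ ∈ FS, (χ : ↥(Subgroup.normalizer (H : Set G)) → ℂ) kk * conj ((χ : ↥(Subgroup.normalizer (H : Set G)) → ℂ) kk)
          + 2 * ε * β₀ * (-1) + (β₀ : ℂ) ^ 2 * P := by
      have hs2 : ∑ χ ∈ FS, (pf χ : ℂ) * conj ((χ : ↥(Subgroup.normalizer (H : Set G)) → ℂ) kk) = -1 := by
        have := congrArg (starRingEnd ℂ) hsumχ
        simpa only [map_sum, map_mul, map_natCast, map_neg, map_one] using this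
      have hpoint : ∀ χ ∈ FS, (T χ : G → ℂ) k₀ * conj ((T χ : G → ℂ) k₀) =
          (χ : ↥(Subgroup.normalizer (H : Set G)) → ℂ) kk * conj ((χ : ↥(Subgroup.normalizer (H : Set G)) → ℂ) kk)
          + (ε : ℂ) * β₀ * ((pf χ : ℂ) * (χ : ↥(Subgroup.normalizer (H : Set G)) → ℂ) kk)
          + (ε : ℂ) * β₀ * ((pf χ : ℂ) * conj ((χ : ↥(Subgroup.normalizer (H : Set G)) → ℂ) kk))
          + (β₀ : ℂ) ^ 2 * (pf χ : ℂ) ^ 2 := fun χ hχ => by
        have hv := hexc χ hχ kk hk₀ hkk1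
        rw [show ((kk : ↥(Subgroup.normalizer (H : Set G))) : G) = k₀ from rfl, hbp χ hχ] at hv
        rw [hv]
        simp only [map_add, map_mul, map_intCast, map_natCast]
        linear_combination ((χ : ↥(Subgroup.normalizer (H : Set G)) → ℂ) kk * conj ((χ : ↥(Subgroup.normalizer (H : Set G)) → ℂ) kk)) * hεε
      rw [Finset.sum_congr rfl hpoint, Finset.sum_add_distrib, Finset.sum_add_distrib, Finset.sum_add_distrib,
        ← Finset.mul_sum, ← Finset.mul_sum, ← Finset.mul_sum, hsumχ, hs2, hPC]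
      ring
    rw [hexp] at hG
    have : ((2 * (∑ ψ ∈ U, m ψ ^ 2 + β₀ ^ 2 * P - 2 * ε * β₀) : ℤ) : ℂ) = (((e : ℤ) - 1 : ℤ) : ℂ) := by
      push_cast
      rw [Finset.sum_congr rfl (fun ψ (_ : ψ ∈ U) => pow_two (m ψ : ℂ))]
      linear_combination 2 * hG - 2 * hL - hΘC
    exact_mod_cast this
  have hCol : 2 * ∑ ψ ∈ U, m ψ * (m ψ + kf ψ * h) + 2 * ((D : ℤ) * (β₀ * P - ε)) + 2 + ((e : ℤ) - 1) * ((h : ℤ) + 1) = 0 := by
    have hG := sum_mul_degree hk₀ne
    rw [hsplit, Finset.sum_congr rfl (g := fun _ => (h : ℂ) + 1) (s₁ := Θ) (fun θ hθ => by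
        rw [(hΘ θ hθ).2 k₀ hk₀ hk₀1, mul_one, ← apply_one (isCharacter_of_irr θ.2), (hΘ θ hθ).1, hΩ]),
      Finset.sum_congr rfl (g := fun ψ => ((m ψ * (m ψ + kf ψ * h) : ℤ) : ℂ)) (s₁ := U) (fun ψ hψ => by
        rw [hnon ψ (hUmem ψ hψ).1 k₀ hk₀ hk₀1, ← apply_one (isCharacter_of_irr ψ.2), hdd, ← hkd ψ hψ]
        push_cast; ring),
      Finset.sum_congr rfl (g := fun χ => (D : ℂ) * ((ε : ℂ) * ((pf χ : ℂ) * (χ : ↥(Subgroup.normalizer (H : Set G)) → ℂ) kk) + (β₀ : ℂ) * (pf χ : ℂ) ^ 2))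
        (s₁ := FS) (fun χ hχ => by
        have hv := hexc χ hχ kk hk₀ hkk1
        rw [show ((kk : ↥(Subgroup.normalizer (H : Set G))) : G) = k₀ from rfl, hbp χ hχ] at hv
        rw [← apply_one (isCharacter_of_irr (T χ).2), hTdeg χ hχ, hv]
        ring),
      ← apply_one (isCharacter_of_irr (oneChar : Cfsg.IrrCharacter G).2),
      show ((oneChar : Cfsg.IrrCharacter G) : G → ℂ) k₀ = 1 from rfl,
      show ((oneChar : Cfsg.IrrCharacter G) : G → ℂ) 1 = 1 from rfl, mul_one,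
      ← Finset.mul_sum, Finset.sum_const, nsmul_eq_mul, Finset.sum_add_distrib, ← Finset.mul_sum, ← Finset.mul_sum, hsumχ, ← hPC,
      ← Int.cast_sum] at hG
    have : ((2 * ∑ ψ ∈ U, m ψ * (m ψ + kf ψ * h) + 2 * ((D : ℤ) * (β₀ * P - ε)) + 2 + ((e : ℤ) - 1) * ((h : ℤ) + 1) : ℤ) : ℂ) = ((0 : ℤ) : ℂ) := by
      rw [Int.cast_add, Int.cast_add, Int.cast_add, Int.cast_mul]
      push_cast at hG ⊢
      linear_combination 2 * hG - ((h : ℂ) + 1) * hΘC
    exact_mod_cast this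
  have hSq : 2 * ∑ ψ ∈ U, (m ψ + kf ψ * h) ^ 2 + 2 * ((D : ℤ) ^ 2 * P) + 2 + ((e : ℤ) - 1) * ((h : ℤ) + 1) ^ 2 =
      2 * (((h : ℤ) + 1) * h * e) := by
    have hG : ∑ ψ : Cfsg.IrrCharacter G, (ψ : G → ℂ) 1 * (ψ : G → ℂ) 1 = (((h + 1) * (h * e) : ℕ) : ℂ) := by
      rw [show (h + 1) * (h * e) = Nat.card G by rw [card_group hZ hab, ← hHcard, Nat.add_sub_cancel], ← sum_sq_degree (G := G), Nat.cast_sum]
      exact Finset.sum_congr rfl fun ψ _ => by rw [apply_one (isCharacter_of_irr ψ.2)]; push_cast; ring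
    rw [hsplit, Finset.sum_congr rfl (g := fun _ => ((h : ℂ) + 1) ^ 2) (s₁ := Θ) (fun θ hθ => by rw [(hΘ θ hθ).1, hΩ]; ring),
      Finset.sum_congr rfl (g := fun ψ => (((m ψ + kf ψ * h) ^ 2 : ℤ) : ℂ)) (s₁ := U) (fun ψ hψ => by
        rw [hdd, ← hkd ψ hψ]; push_cast; ring),
      Finset.sum_congr rfl (g := fun χ => (D : ℂ) ^ 2 * (pf χ : ℂ) ^ 2) (s₁ := FS) (fun χ hχ => by rw [hTdeg χ hχ]; ring),
      show ((oneChar : Cfsg.IrrCharacter G) : G → ℂ) 1 = 1 from rfl, mul_one, ← Finset.mul_sum, ← hPC,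
      Finset.sum_const, nsmul_eq_mul, ← Int.cast_sum] at hG
    have : ((2 * ∑ ψ ∈ U, (m ψ + kf ψ * h) ^ 2 + 2 * ((D : ℤ) ^ 2 * P) + 2 + ((e : ℤ) - 1) * ((h : ℤ) + 1) ^ 2 : ℤ) : ℂ) = ((2 * (((h : ℤ) + 1) * h * e) : ℤ) : ℂ) := by
      rw [Int.cast_add, Int.cast_add, Int.cast_add, Int.cast_mul]
      push_cast at hG ⊢
      linear_combination 2 * hG - ((h : ℂ) + 1) ^ 2 * hΘC
    exact_mod_cast this
  have hPh : (e : ℤ) * P + 1 = h := by rw [hP]; exact_mod_cast hid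
  obtain ⟨hDe, hε1, hβ0, hUk⟩ := feit_num U m kf h e P β₀ D ε hε (by exact_mod_cast he3)
    (by by_contra hc
        push Not at hc
        have : (e : ℤ) * P ≤ (e : ℤ) * 2 := mul_le_mul_of_nonneg_left (by omega) (by omega)
        omega)
    hPh (by exact_mod_cast hD0) hUcard hk1 hQ hCol hSq
  -- the contradiction
  have hDeC : (D : ℂ) = (e : ℂ) := by exact_mod_cast hDe
  set Fc : G → ℂ := fun g => (T η : G → ℂ) g * conj ((T η : G → ℂ) g) with hFc
  have hFchar : Cfsg.IsCharacter G Fc :=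
    CfsgLib.CharBasics.isCharacter_mul (isCharacter_of_irr (T η).2) (isCharacter_star (isCharacter_of_irr (T η).2))
  choose n hn using fun ψ : Cfsg.IrrCharacter G => classInner_character_nat hFchar ψ
  have hexpF : Fc = ∑ ψ : Cfsg.IrrCharacter G, (n ψ : ℂ) • (ψ : G → ℂ) := by
    conv_lhs => rw [classFun_expand (isClassFunction hFchar)]
    exact Finset.sum_congr rfl fun ψ _ => by rw [hn]
  have hn1 : n oneChar = 1 := by
    have h1 := hn oneChar
    have h2 : Cfsg.classInner Fc ((oneChar : Cfsg.IrrCharacter G) : G → ℂ) = Cfsg.classInner (T η : G → ℂ) (T η : G → ℂ) := by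
      show Cfsg.classInner Fc (fun _ => 1) = _
      rw [classInner_one, classInner_eq]
    rw [h2, classInner_self (T η).2] at h1
    exact_mod_cast h1.symm
  let MH : (G → ℂ) → ℂ := fun f => ∑ u : H, f u
  have hMlin : ∀ ψ : G → ℂ, ∀ c : ℂ, (∀ u ∈ H, u ≠ 1 → ψ u = c) → MH ψ = ψ 1 + ((h : ℂ) - 1) * c := by
    intro ψ c hc
    show ∑ u : H, ψ u = _
    rw [← Finset.add_sum_erase _ _ (Finset.mem_univ (1 : H)), Subgroup.coe_one,
      Finset.sum_congr rfl (g := fun _ => c) (fun (w : H) hw => hc w w.2 (fun e1 => Finset.ne_of_mem_erase hw (Subtype.ext e1))),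
      Finset.sum_const, Finset.card_erase_of_mem (Finset.mem_univ _), hHuniv, nsmul_eq_mul,
      Nat.cast_sub hhp, Nat.cast_one]
  let eH : K' ≃ H := (Subgroup.subgroupOfEquivOfLe Subgroup.le_normalizer).toEquiv
  have hTval : ∀ χ ∈ FS, ∀ w : K', (T χ : G → ℂ) ((eH w : H) : G) = (χ : ↥(Subgroup.normalizer (H : Set G)) → ℂ) w := by
    intro χ hχ w
    show (T χ : G → ℂ) ((w : ↥(Subgroup.normalizer (H : Set G))) : G) = _
    by_cases hw : (w : ↥(Subgroup.normalizer (H : Set G))) = 1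
    · rw [hw, Subgroup.coe_one, hTdeg χ hχ, hpf1 χ hχ, hDeC]; push_cast; ring
    · rw [hexc χ hχ w (Subgroup.mem_subgroupOf.1 w.2) hw, hbp χ hχ, hε1, hβ0]; simp
  have hMF : MH Fc = ((h * e : ℕ) : ℂ) := by
    show ∑ u : H, Fc u = _
    have hn0 := classInner_self η.2
    rw [classInner_eq, ← Finset.sum_filter_add_sum_filter_not Finset.univ (fun x : ↥(Subgroup.normalizer (H : Set G)) => x ∈ K'),
      Finset.sum_eq_zero (s := Finset.univ.filter fun x : ↥(Subgroup.normalizer (H : Set G)) => ¬ x ∈ K')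
        (fun x hx => by rw [(rel_induced K' hC' η.2 hηrel).1 x (Finset.mem_filter.1 hx).2, zero_mul]), add_zero] at hn0
    rw [← eH.sum_comp (fun u : H => Fc u),
      Finset.sum_congr rfl (g := fun w : K' => (η : ↥(Subgroup.normalizer (H : Set G)) → ℂ) w * conj ((η : ↥(Subgroup.normalizer (H : Set G)) → ℂ) w))
        (fun w _ => by simp only [Fc, hTval η hηF w]),
      ← Finset.sum_subtype (Finset.univ.filter fun x : ↥(Subgroup.normalizer (H : Set G)) => x ∈ K') (by simp)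
        (fun x => (η : ↥(Subgroup.normalizer (H : Set G)) → ℂ) x * conj ((η : ↥(Subgroup.normalizer (H : Set G)) → ℂ) x))]
    have hc0 : (Nat.card ↥(Subgroup.normalizer (H : Set G)) : ℂ) ≠ 0 := Nat.cast_ne_zero.2 Nat.card_pos.ne'
    rw [← hKH, ← hidx, Subgroup.card_mul_index]
    field_simp at hn0
    exact hn0
  have hF1 : Fc 1 = ((e ^ 2 : ℕ) : ℂ) := by
    show (T η : G → ℂ) 1 * conj ((T η : G → ℂ) 1) = _
    rw [hDη, Complex.conj_natCast, hDeC]; push_cast; ring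
  have hbound : ∀ ψ : Cfsg.IrrCharacter G, ψ ≠ oneChar → ∃ M : ℤ, MH (ψ : G → ℂ) = M ∧ ((h : ℤ) + 1) * M ≤ 2 * h * dd ψ := by
    intro ψ hψ
    by_cases hψT : ψ ∈ FS.image T
    · obtain ⟨χ, hχ, rfl⟩ := Finset.mem_image.1 hψT
      refine ⟨0, ?_, by rw [mul_zero]; positivity⟩
      show ∑ u : H, (T χ : G → ℂ) u = _
      rw [← eH.sum_comp (fun u : H => (T χ : G → ℂ) u), Finset.sum_congr rfl (fun w _ => hTval χ hχ w),
        rel_sum_eq_zero K' hC' χ.2 (Finset.mem_filter.1 hχ).2, Int.cast_zero]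
    by_cases hψΘ : ψ ∈ Θ
    · obtain ⟨h1, h2⟩ := hΘ ψ hψΘ
      refine ⟨2 * h, ?_, ?_⟩
      · rw [hMlin _ 1 h2, h1, hΩ]; push_cast; ring
      · have : ((dd ψ : ℕ) : ℂ) = ((h + 1 : ℕ) : ℂ) := by rw [← hdd, h1, hΩ]; push_cast; rfl
        rw [Nat.cast_inj] at this
        rw [this]; push_cast; linarith
    have hψU : ψ ∈ U := by
      refine Finset.mem_sdiff.2 ⟨Finset.mem_univ _, ?_⟩
      rw [Finset.mem_insert, Finset.mem_union]
      tauto
    obtain ⟨hk, hc⟩ := hUk ψ hψU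
    have hd := hkd ψ hψU
    rw [hk, one_mul] at hd
    refine ⟨dd ψ + ((h : ℤ) - 1) * m ψ, ?_, ?_⟩
    · rw [hMlin _ (m ψ : ℂ) (hnon ψ (hUmem ψ hψU).1), hdd]; push_cast; ring
    · rcases hc with hc | hc <;> rw [hd, hc]
      · simp only [zero_add, mul_zero, add_zero]
        nlinarith
      · nlinarith
  choose! M hM hMle using hbound
  have hlin : MH Fc = ∑ ψ : Cfsg.IrrCharacter G, (n ψ : ℂ) * MH (ψ : G → ℂ) := by
    show ∑ u : H, Fc u = _
    rw [hexpF]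
    simp only [Finset.sum_apply, Pi.smul_apply, smul_eq_mul, MH, Finset.mul_sum]
    rw [Finset.sum_comm]
  have hsum1 : (h : ℤ) * e - h = ∑ ψ ∈ Finset.univ.erase (oneChar : Cfsg.IrrCharacter G), (n ψ : ℤ) * M ψ := by
    have hone1 : MH ((oneChar : Cfsg.IrrCharacter G) : G → ℂ) = (h : ℂ) := by
      show ∑ u : H, (1 : ℂ) = _
      rw [Finset.sum_const, hHuniv, nsmul_eq_mul, mul_one]
    rw [← Finset.add_sum_erase _ _ (Finset.mem_univ (oneChar : Cfsg.IrrCharacter G)), hn1, hone1, hMF,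
      Finset.sum_congr rfl (fun ψ hψ => by rw [hM ψ (Finset.ne_of_mem_erase hψ)])] at hlin
    have : (((h : ℤ) * e - h : ℤ) : ℂ) = ((∑ ψ ∈ Finset.univ.erase (oneChar : Cfsg.IrrCharacter G), (n ψ : ℤ) * M ψ : ℤ) : ℂ) := by
      push_cast at hlin ⊢
      linear_combination hlin
    exact_mod_cast this
  have hsum2 : (e : ℤ) ^ 2 - 1 = ∑ ψ ∈ Finset.univ.erase (oneChar : Cfsg.IrrCharacter G), (n ψ : ℤ) * dd ψ := by
    have h1 := congrFun hexpF 1
    rw [hF1, Finset.sum_apply, ← Finset.add_sum_erase _ _ (Finset.mem_univ (oneChar : Cfsg.IrrCharacter G))] at h1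
    simp only [Pi.smul_apply, smul_eq_mul, hn1] at h1
    rw [show ((oneChar : Cfsg.IrrCharacter G) : G → ℂ) 1 = 1 from rfl,
      Finset.sum_congr rfl (fun ψ (_ : ψ ∈ Finset.univ.erase (oneChar : Cfsg.IrrCharacter G)) => by rw [hdd ψ])] at h1
    have : (((e : ℤ) ^ 2 - 1 : ℤ) : ℂ) = ((∑ ψ ∈ Finset.univ.erase (oneChar : Cfsg.IrrCharacter G), (n ψ : ℤ) * (dd ψ : ℤ) : ℤ) : ℂ) := by
      push_cast at h1 ⊢
      linear_combination h1
    exact_mod_cast this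
  have hfinal : ((h : ℤ) + 1) * ((h : ℤ) * e - h) ≤ 2 * h * ((e : ℤ) ^ 2 - 1) := by
    rw [hsum1, hsum2, Finset.mul_sum, Finset.mul_sum]
    refine Finset.sum_le_sum fun ψ hψ => ?_
    have := mul_le_mul_of_nonneg_left (hMle ψ (Finset.ne_of_mem_erase hψ)) (Int.natCast_nonneg (n ψ))
    linarith
  have hbig : 2 * (e : ℤ) + 2 ≤ h := by omega
  have h5 : 0 < (h : ℤ) * ((e : ℤ) - 1) := mul_pos (by omega) (by omega)
  nlinarith

end CfsgLib.ZGrp
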