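import Mathlib
import Cfsg.Agent.ZGrp.SuzPairs
import Cfsg.Agent.OddCoh.Link
import Cfsg.Agent.Exceptional.LinearFamily

/-!
Equidistribution of the products of a fixed-point-free real element with involutions over the
cosets of the centre in the point kernel.
-/

set_option autoImplicit false

namespace CfsgLib.ZGrp

open CfsgLib.CharBasics CfsgLib.Exceptional CfsgLib.FeitCoh MulAction
open scoped ComplexConjugate

universe u v

theorem extendByZero_comp {G : Type u} [Group G] (H : Subgroup G) (θ : H → ℂ) (w : G) [Decidable (w ∈ H)] :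
    Cfsg.extendByZero H θ w = if h : w ∈ H then θ ⟨w, h⟩ else 0 := by
  split_ifs with h
  · exact extendByZero_coe H θ ⟨w, h⟩
  · exact extendByZero_of_not_mem H θ h

/-- A virtual character of norm two vanishing at `1`, `z` and `g` has vanishing sum over the class of `z`
times `g`. -/
theorem sum_conj_mul_eq_zero {G : Type u} [Group G] [Fintype G] {β : G → ℂ}
    (hβ : Cfsg.IsGeneralizedCharacter G β) (hβ2 : Cfsg.classInner β β = 2) (h1 : β 1 = 0) (z g : G)
    (hz : β z = 0) (hg : β g = 0) : ∑ r : G, β (r * z * r⁻¹ * g) = 0 := by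
  obtain ⟨χ, ψ, -, rfl⟩ := norm_two_cases hβ hβ2 h1
  simp only [Pi.sub_apply, sub_eq_zero] at h1 hz hg ⊢
  rw [Finset.sum_sub_distrib, sub_eq_zero]
  have e1 := sum_conj_apply_mul χ.2 z g
  have e2 := sum_conj_apply_mul ψ.2 z g
  rw [← hz, ← hg, ← h1] at e2
  exact mul_left_cancel₀ (apply_one_ne_zero χ.2) (e1.trans e2.symm)

/-- A function on an elementary abelian 2-group with equal non-trivial Fourier coefficients is
constant off `1`. -/
theorem const_of_coeff {V : Type u} [CommGroup V] [Finite V] [Fintype (V →* ℂˣ)] (hV : ∀ v : V, v * v = 1)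
    {X : Type v} [Fintype X] [DecidableEq V] (f : X → V) (P : X → Prop) [DecidablePred P]
    (h : ∀ l l' : V →* ℂˣ, l ≠ 1 → l' ≠ 1 →
      ∑ x ∈ Finset.univ.filter P, ((l (f x) : ℂˣ) : ℂ) = ∑ x ∈ Finset.univ.filter P, ((l' (f x) : ℂˣ) : ℂ))
    {v v' : V} (hv : v ≠ 1) (hv' : v' ≠ 1) :
    ((Finset.univ.filter P).filter fun x => f x = v).card = ((Finset.univ.filter P).filter fun x => f x = v').card := by
  classical
  have horth : ∀ u : V, ∑ l : V →* ℂˣ, ((l u : ℂˣ) : ℂ) = if u = 1 then (Nat.card V : ℂ) else 0 := by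
    intro u
    split_ifs with hu
    · subst hu
      simp only [map_one, Units.val_one, Finset.sum_const, Finset.card_univ, nsmul_eq_mul, mul_one]
      rw [← Nat.card_eq_fintype_card, CommGroup.card_monoidHom_of_hasEnoughRootsOfUnity]
    · obtain ⟨l₀, hl₀⟩ := CommGroup.exists_apply_ne_one_of_hasEnoughRootsOfUnity V ℂ hu
      have e : ∑ l : V →* ℂˣ, (((l₀ * l) u : ℂˣ) : ℂ) = ∑ l : V →* ℂˣ, ((l u : ℂˣ) : ℂ) :=
        Fintype.sum_equiv (Equiv.mulLeft l₀) _ _ fun l => rfl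
      simp only [MonoidHom.mul_apply, Units.val_mul, ← Finset.mul_sum] at e
      have h0 : (((l₀ u : ℂˣ) : ℂ) - 1) * ∑ l : V →* ℂˣ, ((l u : ℂˣ) : ℂ) = 0 := by
        rw [sub_mul, e, one_mul, sub_self]
      exact (mul_eq_zero.1 h0).resolve_left (sub_ne_zero.2 fun e1 => hl₀ (Units.ext e1))
  set M : (V →* ℂˣ) → ℂ := fun l => ∑ x ∈ Finset.univ.filter P, ((l (f x) : ℂˣ) : ℂ) with hM
  have key : ∀ w : V, ∑ l : V →* ℂˣ, ((l w : ℂˣ) : ℂ) * M l =
      (Nat.card V : ℂ) * ((Finset.univ.filter P).filter fun x => f x = w).card := by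
    intro w
    simp only [hM, Finset.mul_sum]
    rw [Finset.sum_comm]
    rw [Finset.card_filter, Nat.cast_sum, Finset.mul_sum]
    refine Finset.sum_congr rfl fun x _ => ?_
    have := horth (w * f x)
    simp only [map_mul, Units.val_mul] at this
    rw [this]
    by_cases he : f x = w
    · rw [if_pos (by rw [he, hV]), if_pos he, Nat.cast_one, mul_one]
    · rw [if_neg (fun e1 => he (by rw [eq_inv_of_mul_eq_one_right e1, inv_eq_of_mul_eq_one_right (hV w)])), if_neg he,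
        Nat.cast_zero, mul_zero]
  obtain ⟨l₀, hl₀⟩ := CommGroup.exists_apply_ne_one_of_hasEnoughRootsOfUnity V ℂ hv
  have hl₀1 : l₀ ≠ 1 := fun e => hl₀ (by rw [e]; rfl)
  have hd : ∀ l : V →* ℂˣ, (((l v : ℂˣ) : ℂ) - ((l v' : ℂˣ) : ℂ)) * M l =
      (((l v : ℂˣ) : ℂ) - ((l v' : ℂˣ) : ℂ)) * M l₀ := by
    intro l
    by_cases hl : l = 1
    · subst hl; simp
    · rw [show M l = M l₀ from h l l₀ hl hl₀1]
  have hs := Finset.sum_congr rfl fun l (_ : l ∈ (Finset.univ : Finset (V →* ℂˣ))) => hd l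
  rw [← Finset.sum_mul] at hs
  simp only [sub_mul, Finset.sum_sub_distrib, key, horth, if_neg hv, if_neg hv'] at hs
  simp only [zero_mul, sub_self, sub_eq_zero] at hs
  exact_mod_cast mul_left_cancel₀ (Nat.cast_ne_zero.2 Nat.card_pos.ne') hs

variable {G : Type u} {Ω : Type v} [Group G] [Fintype G] [MulAction G Ω] [Fintype Ω]
variable (hZ : Cfsg.IsZassenhausGroup G Ω) [IsSimpleGroup G] {a b : Ω} (hab : a ≠ b)
  (hn : Odd (Fintype.card Ω)) (U : Subgroup G)
  (hUa : U ≤ stabilizer G a) (hUcard : Nat.card U + 1 = Fintype.card Ω)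
  (hUfix : ∀ u ∈ U, u ≠ 1 → ∀ c : Ω, u • c = c → c = a)

include hZ hab hn hUa hUcard hUfix in
theorem involution_mem {x : G} (hx : orderOf x = 2) (hxa : x • a = a) : x ∈ U :=
  mem_kernel hZ hab U hUa hUcard hUfix hxa fun _ hc =>
    eq_of_fixed_involution hZ hab (odd_pst_of_odd_degree hZ hn hab) hx hc hxa

include hZ hab hn hUa hUcard hUfix in
/-- The non-trivial linear characters of `U` trivial on `Zs` give equal sums. -/
theorem coeff_eq (Zs : Subgroup G) (hinvZ : ∀ u ∈ U, orderOf u = 2 → u ∈ Zs)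
    [(Zs.subgroupOf U).Normal] (hZn' : ∀ y : G, y • a = a → ∀ w ∈ Zs, y⁻¹ * w * y ∈ Zs) {g z : G} (hg : IsRealFpf Ω g) (hz : orderOf z = 2)
    (l l' : (U ⧸ Zs.subgroupOf U) →* ℂˣ) (hl : l ≠ 1) (hl' : l' ≠ 1) :
    ∑ r : G, ∑ s : G, Cfsg.extendByZero U (fun u : U => ((l (QuotientGroup.mk' _ u) : ℂˣ) : ℂ)) (s⁻¹ * (r * z * r⁻¹ * g) * s) =
    ∑ r : G, ∑ s : G, Cfsg.extendByZero U (fun u : U => ((l' (QuotientGroup.mk' _ u) : ℂˣ) : ℂ)) (s⁻¹ * (r * z * r⁻¹ * g) * s) := by
  classical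
  haveI := Fintype.ofFinite ↥(Subgroup.normalizer (U : Set G))
  have hNorm := normalizer_kernel hZ hab U hUa hUcard hUfix
  have hTI := kernel_ti hZ hab U hUa hUcard hUfix
  have hC := kernel_centralizer hZ hab U hUa hUcard hUfix
  have hC' := centralizer_le_in_normalizer U hC
  set L := Subgroup.normalizer (U : Set G) with hL
  set K' := U.subgroupOf L with hK'
  haveI := Fintype.ofFinite K'
  let ι : K' ≃* U := Subgroup.subgroupOfEquivOfLe Subgroup.le_normalizer
  let hom : ((U ⧸ Zs.subgroupOf U) →* ℂˣ) → (K' →* ℂˣ) := fun m => (m.comp (QuotientGroup.mk' _)).comp ι.toMonoidHom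
  have hhom : ∀ m, m ≠ 1 → hom m ≠ 1 := fun m hm e => hm (MonoidHom.ext fun q => by
    obtain ⟨u, rfl⟩ := QuotientGroup.mk'_surjective (Zs.subgroupOf U) q
    have := DFunLike.congr_fun e (ι.symm u)
    simpa [hom] using this)
  set η : ((U ⧸ Zs.subgroupOf U) →* ℂˣ) → (L → ℂ) := fun m => Cfsg.indFun K' (fun k => ((hom m k : ℂˣ) : ℂ)) with hη
  have hirr : ∀ m, m ≠ 1 → Cfsg.IsIrrCharacter _ (η m) ∧ Rel K' (η m) := fun m hm =>
    induced_irr K' hC' (isIrr_of_hom (hom m)) fun e => hhom m hm (MonoidHom.ext fun k => Units.ext (congrFun e k))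
  -- the induced function as an average
  set S : ((U ⧸ Zs.subgroupOf U) →* ℂˣ) → ℂ := fun m =>
    ∑ r : G, ∑ s : G, Cfsg.extendByZero U (fun u : U => ((m (QuotientGroup.mk' _ u) : ℂˣ) : ℂ)) (s⁻¹ * (r * z * r⁻¹ * g) * s)
    with hS
  have hext : ∀ m, ∀ w : G, Cfsg.extendByZero L (η m) w = (Nat.card K' : ℂ)⁻¹ *
      ∑ x : L, Cfsg.extendByZero U (fun u : U => ((m (QuotientGroup.mk' _ u) : ℂˣ) : ℂ)) ((x : G)⁻¹ * w * x) := by
    intro m w
    rw [extendByZero_comp L]
    split_ifs with hw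
    · simp only [hη, Cfsg.indFun]
      congr 1
      refine Finset.sum_congr rfl fun x _ => ?_
      rw [extendByZero_comp K', extendByZero_comp U]
      by_cases hmem : (x : G)⁻¹ * w * x ∈ U
      · rw [dif_pos (show x⁻¹ * ⟨w, hw⟩ * x ∈ K' from Subgroup.mem_subgroupOf.2 hmem), dif_pos hmem]
        rfl
      · rw [dif_neg (show x⁻¹ * ⟨w, hw⟩ * x ∉ K' from fun h => hmem (Subgroup.mem_subgroupOf.1 h)), dif_neg hmem]
    · rw [Finset.sum_eq_zero, mul_zero]
      intro x _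
      refine extendByZero_of_not_mem _ _ fun h => hw ?_
      have : (x : G) * ((x : G)⁻¹ * w * x) * (x : G)⁻¹ ∈ L := L.mul_mem (L.mul_mem x.2 (Subgroup.le_normalizer h)) (L.inv_mem x.2)
      simpa [mul_assoc] using this
  have hval : ∀ m, ∑ r : G, Cfsg.indFun L (η m) (r * z * r⁻¹ * g) = (Nat.card K' : ℂ)⁻¹ * S m := by
    intro m
    simp only [Cfsg.indFun, hext m, ← Finset.mul_sum]
    have hsum : ∑ r : G, ∑ s : G, ∑ x : L, Cfsg.extendByZero U (fun u : U => ((m (QuotientGroup.mk' _ u) : ℂˣ) : ℂ))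
        ((x : G)⁻¹ * (s⁻¹ * (r * z * r⁻¹ * g) * s) * x) = (Nat.card L : ℂ) * S m := by
      rw [hS, Finset.mul_sum]
      refine Finset.sum_congr rfl fun r _ => ?_
      rw [Finset.sum_comm, Nat.card_eq_fintype_card, ← nsmul_eq_mul, ← Finset.card_univ, ← Finset.sum_const]
      refine Finset.sum_congr rfl fun x _ => Fintype.sum_equiv (Equiv.mulRight (x : G)) _ _ fun s => ?_
      congr 1
      simp only [Equiv.coe_mulRight]
      group
    rw [hsum]
    field_simp
  suffices h : ∑ r : G, Cfsg.indFun L (η l) (r * z * r⁻¹ * g) = ∑ r : G, Cfsg.indFun L (η l') (r * z * r⁻¹ * g) by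
    rw [hval, hval] at h
    exact mul_left_cancel₀ (inv_ne_zero (Nat.cast_ne_zero.2 Nat.card_pos.ne')) h
  by_cases heq : η l = η l'
  · rw [heq]
  set α := η l - η l' with hα
  have hindsub : Cfsg.indFun L α = Cfsg.indFun L (η l) - Cfsg.indFun L (η l') := indFun_sub' L _ _
  set T : Set (L → ℂ) := {η l, η l'}
  have hT : ∀ χ ∈ T, Cfsg.IsIrrCharacter _ χ ∧ Rel K' χ := by
    rintro χ (rfl | rfl)
    · exact hirr l hl
    · exact hirr l' hl'
  have hdeg : ∀ m, η m 1 = (K'.index : ℂ) := fun m => by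
    simp [hη, indFun_apply_one]
  have hαmem : α ∈ Cfsg.zspanOn T ({1}ᶜ : Set ↥L) := mem_on_one.2
    ⟨sub_mem (Submodule.subset_span (Or.inl rfl)) (Submodule.subset_span (Or.inr rfl)), by rw [hα, Pi.sub_apply, hdeg, hdeg, sub_self]⟩
  obtain ⟨⟨-, -, hiso, hgen⟩, hone⟩ := CfsgLib.OddCoh.ind_isometry U hTI hC hT
  have h2 : Cfsg.classInner (Cfsg.indFun L α) (Cfsg.indFun L α) = 2 := by
    rw [hiso α hαmem α hαmem, hα, classInner_sub_left, classInner_sub_right, classInner_sub_right,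
      classInner_self (hirr l hl).1, classInner_self (hirr l' hl').1, classInner_ne (hirr l hl).1 (hirr l' hl').1 heq,
      classInner_ne (hirr l' hl').1 (hirr l hl).1 (Ne.symm heq)]
    ring
  have hZn : ∀ y : L, ∀ w : G, w ∈ Zs → (y : G)⁻¹ * w * (y : G) ∈ Zs := fun y w hw =>
    hZn' _ (mem_stabilizer_iff.1 (by rw [← hNorm]; exact y.2)) w hw
  have hα0 : ∀ x : L, ((x : G) ∈ U → (x : G) ∈ Zs) → α x = 0 := by
    intro x hx
    simp only [hα, Pi.sub_apply, hη, Cfsg.indFun, ← mul_sub, ← Finset.sum_sub_distrib]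
    rw [Finset.sum_eq_zero, mul_zero]
    intro y _
    rw [extendByZero_comp K', extendByZero_comp K']
    split_ifs with hy
    · have hy' := Subgroup.mem_subgroupOf.1 hy
      have hxU : (x : G) ∈ U := by
        have := (Subgroup.mem_normalizer_iff.1 y.2 _).1 hy'
        simpa [mul_assoc] using this
      have hZy : ((y⁻¹ * x * y : L) : G) ∈ Zs := hZn y _ (hx hxU)
      have e : ∀ m : (U ⧸ Zs.subgroupOf U) →* ℂˣ, hom m ⟨_, hy⟩ = 1 := fun m => by
        show m (QuotientGroup.mk' _ (ι ⟨_, hy⟩)) = 1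
        rw [show QuotientGroup.mk' (Zs.subgroupOf U) (ι ⟨_, hy⟩) = 1 from (QuotientGroup.eq_one_iff _).2 hZy, map_one]
      rw [e l, e l', sub_self]
    · rw [sub_self]
  have hres := sum_conj_mul_eq_zero (hgen α hαmem) h2 (hone α hαmem) z g ?_ ?_
  · change ∑ r, Cfsg.indFun L α (r * z * r⁻¹ * g) = 0 at hres
    rw [hindsub] at hres
    simp only [Pi.sub_apply, Finset.sum_sub_distrib, sub_eq_zero] at hres
    exact hres
  · simp only [Cfsg.indFun]
    rw [Finset.sum_eq_zero, mul_zero]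
    intro s _
    rw [extendByZero_comp L]
    split_ifs with hs
    · refine hα0 _ fun hU' => hinvZ _ hU' ?_
      rw [show ((⟨_, hs⟩ : L) : G) = MulAut.conj s⁻¹ z by simp, MulEquiv.orderOf_eq, hz]
    · rfl
  · simp only [Cfsg.indFun]
    rw [Finset.sum_eq_zero, mul_zero]
    intro s _
    refine extendByZero_of_not_mem _ _ fun hs => ?_
    have hs' : s⁻¹ * g * s ∈ stabilizer G a := by rw [← hNorm]; exact hs
    rw [mem_stabilizer_iff, mul_smul, mul_smul, inv_smul_eq_iff] at hs'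
    exact hg.1 _ hs'

end CfsgLib.ZGrp
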