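import Mathlib
import Cfsg.Agent.ZGrp.SuzEqui

/-!
The divisibility coming from the equidistribution.
-/

set_option autoImplicit false

namespace CfsgLib.ZGrp

open MulAction

universe u v

variable {G : Type u} {Ω : Type v} [Group G] [Fintype G] [MulAction G Ω] [Fintype Ω]
variable (hZ : Cfsg.IsZassenhausGroup G Ω) [IsSimpleGroup G] {a b : Ω} (hab : a ≠ b)
  (hn : Odd (Fintype.card Ω)) (U : Subgroup G)
  (hUa : U ≤ stabilizer G a) (hUcard : Nat.card U + 1 = Fintype.card Ω)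
  (hUfix : ∀ u ∈ U, u ≠ 1 → ∀ c : Ω, u • c = c → c = a)

/-- `x * g` fixes `p` and nothing else. -/
def OnlyFix (Ω : Type v) [MulAction G Ω] (g x : G) (p : Ω) : Prop :=
  orderOf x = 2 ∧ (x * g) • p = p ∧ ∀ c : Ω, (x * g) • c = c → c = p

include hZ hn in
omit [IsSimpleGroup G] in
theorem mul_ne_one_of_fpf {g x : G} (hg : Fpf Ω g) (hx : orderOf x = 2) : x * g ≠ 1 := by
  intro h
  have hgx : g = x := by rw [eq_inv_of_mul_eq_one_right h, inv_eq_of_mul_eq_one_right (sq_involution hx)]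
  have := odd_of_fpf hZ hn hg
  rw [hgx, hx] at this
  exact absurd this (by decide)

include hZ hab hn hUa hUcard hUfix in
theorem existsUnique_onlyFix {g : G} (hg : Fpf Ω g) (p : Ω) : ∃! x : G, OnlyFix Ω g x p := by
  have hodd := odd_pst_of_odd_degree hZ hn hab
  obtain ⟨s, hsa, hsb⟩ := exists_move hZ hab (hg p).symm
  obtain ⟨t, ht1, ht2⟩ := exists_move hZ (hg p) (hg p).symm
  have hy0 : (s⁻¹ * (t * g) * s) • a = a := by rw [mul_smul, mul_smul, hsa, mul_smul, ht1, inv_smul_eq_iff, hsa]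
  obtain ⟨k, hk, d, hd, hkd⟩ := exists_prod hZ hab U hUa hUcard hUfix hy0
  have hdi := Subgroup.inv_mem _ hd
  have e : s * d⁻¹ * s⁻¹ * t * g = s * (d⁻¹ * k * d⁻¹⁻¹) * s⁻¹ := by
    calc s * d⁻¹ * s⁻¹ * t * g = s * d⁻¹ * (s⁻¹ * (t * g) * s) * s⁻¹ := by group
      _ = _ := by rw [hkd]; group
  refine ⟨s * d⁻¹ * s⁻¹ * t, ⟨?_, ?_, ?_⟩, ?_⟩
  · have h1 : (s * d⁻¹ * s⁻¹ * t) • (g • p) = p := by
      rw [mul_smul, ht1, mul_smul, mul_smul, inv_smul_eq_iff.2 hsa.symm, (mem_pst.1 hdi).1, hsa]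
    have h2 : (s * d⁻¹ * s⁻¹ * t) • p = g • p := by
      rw [mul_smul, ht2, mul_smul, mul_smul, inv_smul_eq_iff.2 hsb.symm, (mem_pst.1 hdi).2, hsb]
    exact orderOf_swap hZ hab hodd (hg p) h1 h2
  · rw [e, mul_smul, mul_smul, inv_smul_eq_iff.2 hsa.symm]
    rw [mem_stabilizer_iff.1 (hUa (conj_kernel hZ hab U hUa hUcard hUfix (mem_pst.1 hdi).1 hk)), hsa]
  · intro c hc
    rw [e, conj_smul_eq_iff] at hc
    have hmem := conj_kernel hZ hab U hUa hUcard hUfix (mem_pst.1 hdi).1 hk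
    have hne : d⁻¹ * k * d⁻¹⁻¹ ≠ 1 := by
      intro h
      rw [h, mul_one, mul_inv_cancel] at e
      have h1 : (s * d⁻¹ * s⁻¹ * t) • (g • p) = p := by
        rw [mul_smul, ht1, mul_smul, mul_smul, inv_smul_eq_iff.2 hsa.symm, (mem_pst.1 hdi).1, hsa]
      have h2 : (s * d⁻¹ * s⁻¹ * t) • p = g • p := by
        rw [mul_smul, ht2, mul_smul, mul_smul, inv_smul_eq_iff.2 hsb.symm, (mem_pst.1 hdi).2, hsb]
      exact mul_ne_one_of_fpf hZ hn hg (orderOf_swap hZ hab hodd (hg p) h1 h2) e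
    have := hUfix _ hmem hne _ hc
    rw [inv_smul_eq_iff] at this
    rw [this, hsa]
  · rintro x ⟨hx, hxp, hxu⟩
    have hxg : x • (g • p) = p := by rw [smul_smul, hxp]
    have hm : s⁻¹ * (x * g) * s ∈ U := by
      refine mem_kernel hZ hab U hUa hUcard hUfix (by rw [mul_smul, mul_smul, hsa, hxp, inv_smul_eq_iff, hsa]) fun c hc => ?_
      rw [mul_smul, mul_smul, inv_smul_eq_iff] at hc
      exact MulAction.injective s ((hxu _ hc).trans hsa.symm)
    have hm' : s⁻¹ * (s * d⁻¹ * s⁻¹ * t * g) * s ∈ U := by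
      rw [e, show s⁻¹ * (s * (d⁻¹ * k * d⁻¹⁻¹) * s⁻¹) * s = d⁻¹ * k * d⁻¹⁻¹ by group]
      exact conj_kernel hZ hab U hUa hUcard hUfix (mem_pst.1 hdi).1 hk
    have hx1 : x • p = g • p := by
      conv_lhs => rw [← hxg, smul_smul x x, sq_involution hx, one_smul]
    set x₀ := s * d⁻¹ * s⁻¹ * t
    have h01 : x₀ • (g • p) = p := by
      show (s * d⁻¹ * s⁻¹ * t) • (g • p) = p
      rw [mul_smul, ht1, mul_smul, mul_smul, inv_smul_eq_iff.2 hsa.symm, (mem_pst.1 hdi).1, hsa]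
    have h02 : x₀ • p = g • p := by
      show (s * d⁻¹ * s⁻¹ * t) • p = g • p
      rw [mul_smul, ht2, mul_smul, mul_smul, inv_smul_eq_iff.2 hsb.symm, (mem_pst.1 hdi).2, hsb]
    have hxi : x⁻¹ • p = g • p := by rw [inv_smul_eq_iff, hxg]
    have hq : s⁻¹ * (x₀ * x⁻¹) * s ∈ U := by
      have e2 : s⁻¹ * (x₀ * x⁻¹) * s = (s⁻¹ * (x₀ * g) * s) * (s⁻¹ * (x * g) * s)⁻¹ := by group
      rw [e2]
      exact U.mul_mem hm' (U.inv_mem hm)
    have hfix : (s⁻¹ * (x₀ * x⁻¹) * s) • b = b := by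
      rw [mul_smul, mul_smul, hsb, mul_smul, inv_smul_eq_iff.2 hx1.symm, h02, inv_smul_eq_iff, hsb]
    by_contra hne
    refine hab.symm (hUfix _ hq (fun h => hne ?_) b hfix)
    have e3 : x₀ * x⁻¹ = s * (s⁻¹ * (x₀ * x⁻¹) * s) * s⁻¹ := by group
    rw [h, mul_one, mul_inv_cancel] at e3
    exact (mul_inv_eq_one.1 e3).symm

include hZ hab hn hUa hUcard hUfix in
/-- The number of cosets other than the centre divides the weighted number of non-involutory products. -/
theorem index_sub_one_dvd (Zs : Subgroup G) (hZinv : ∀ u ∈ U, (u ∈ Zs ↔ u * u = 1)) (hZle : Zs ≤ U)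
    (hsq : ∀ u ∈ U, u * u ∈ Zs) (hZc : ∀ u ∈ U, ∀ w ∈ Zs, Commute w u) {g : G} (hg : IsRealFpf Ω g) :
    (Zs.subgroupOf U).index - 1 ∣ Nat.card U * Nat.card (stabilizer G a) * (Fintype.card Ω - tor g) := by
  classical
  have hodd := odd_pst_of_odd_degree hZ hn hab
  have hC := kernel_centralizer hZ hab U hUa hUcard hUfix
  have hcj : ∀ y : G, y • a = a → ∀ w ∈ U, y⁻¹ * w * y ∈ U := fun y hy w hw => by
    have := conj_kernel hZ hab U hUa hUcard hUfix (x := y⁻¹) (inv_smul_eq_iff.2 hy.symm) hw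
    rwa [inv_inv] at this
  have hZn' : ∀ y : G, y • a = a → ∀ w ∈ Zs, y⁻¹ * w * y ∈ Zs := fun y hy w hw => by
    rw [hZinv _ (hcj y hy w (hZle hw))]
    calc y⁻¹ * w * y * (y⁻¹ * w * y) = y⁻¹ * (w * w) * y := by group
      _ = 1 := by rw [(hZinv w (hZle hw)).1 hw]; group
  haveI : (Zs.subgroupOf U).Normal := ⟨fun w hw u => by
    rw [Subgroup.mem_subgroupOf] at hw ⊢
    have := hZn' ((u : G)⁻¹) (inv_smul_eq_iff.2 (mem_stabilizer_iff.1 (hUa u.2)).symm) _ hw
    simpa using this⟩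
  have hV : ∀ q : U ⧸ Zs.subgroupOf U, q * q = 1 := fun q => by
    obtain ⟨u, rfl⟩ := QuotientGroup.mk'_surjective (Zs.subgroupOf U) q
    rw [← map_mul]
    exact (QuotientGroup.eq_one_iff _).2 (Subgroup.mem_subgroupOf.2 (hsq _ u.2))
  letI : CommGroup (U ⧸ Zs.subgroupOf U) :=
    { (inferInstance : Group (U ⧸ Zs.subgroupOf U)) with
      mul_comm := fun x y => by
        have h1 := inv_eq_of_mul_eq_one_right (hV (x * y))
        rw [mul_inv_rev, inv_eq_of_mul_eq_one_right (hV x), inv_eq_of_mul_eq_one_right (hV y)] at h1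
        exact h1.symm }
  obtain ⟨z, hz, hza⟩ : ∃ z : G, orderOf z = 2 ∧ z • a = a := by
    have h := card_involutions_fixing hZ hab hodd hn a
    have hp : 0 < Nat.card {x : G // orderOf x = 2 ∧ x • a = a} := h ▸ Nat.card_pos
    obtain ⟨⟨z, h1, h2⟩⟩ := (Nat.card_pos_iff.1 hp).1
    exact ⟨z, h1, h2⟩
  have hzU : z ∈ U := involution_mem hZ hab hn U hUa hUcard hUfix hz hza
  have hinvZ : ∀ u ∈ U, orderOf u = 2 → u ∈ Zs := fun u hu h2 => (hZinv u hu).2 (sq_involution h2)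
  choose xp hxp hxu using fun p => existsUnique_onlyFix hZ hab hn U hUa hUcard hUfix hg.1 p
  let w : G × G → G := fun rs => rs.2⁻¹ * (rs.1 * z * rs.1⁻¹ * g) * rs.2
  set P : G × G → Prop := fun rs => w rs ∈ U with hP
  let f : G × G → U ⧸ Zs.subgroupOf U := fun rs => if h : w rs ∈ U then QuotientGroup.mk' _ ⟨w rs, h⟩ else 1
  have hz' : ∀ r : G, orderOf (r * z * r⁻¹) = 2 := fun r => by rw [← MulAut.conj_apply, MulEquiv.orderOf_eq, hz]
  -- membership
  have hwU : ∀ r s : G, w (r, s) ∈ U ↔ r * z * r⁻¹ = xp (s • a) := by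
    intro r s
    constructor
    · intro h
      refine hxu _ _ ⟨hz' r, ?_, fun c hc => ?_⟩
      · have := mem_stabilizer_iff.1 (hUa h)
        simp only [w] at this
        rw [mul_smul, mul_smul, inv_smul_eq_iff] at this
        exact this
      · have h1 : w (r, s) ≠ 1 := fun e => mul_ne_one_of_fpf hZ hn hg.1 (hz' r) (by
          have e' : r * z * r⁻¹ * g = s * w (r, s) * s⁻¹ := by simp only [w]; group
          rw [e', e, mul_one, mul_inv_cancel])
        have := hUfix _ h h1 (s⁻¹ • c) (by simp only [w]; rw [mul_smul, mul_smul, smul_inv_smul, hc])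
        rwa [inv_smul_eq_iff] at this
    · intro h
      refine mem_kernel hZ hab U hUa hUcard hUfix ?_ fun c hc => ?_
      · simp only [w]
        rw [mul_smul, mul_smul, inv_smul_eq_iff, h, (hxp _).2.1]
      · simp only [w] at hc
        rw [mul_smul, mul_smul, inv_smul_eq_iff, h] at hc
        exact MulAction.injective s ((hxp _).2.2 _ hc)
  -- counting over points
  have hcount : ∀ A : Finset Ω, ((Finset.univ.filter P).filter fun rs => rs.2 • a ∈ A).card =
      A.card * (Nat.card U * Nat.card (stabilizer G a)) := by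
    intro A
    rw [Finset.card_eq_sum_card_fiberwise (s := (Finset.univ.filter P).filter fun rs => rs.2 • a ∈ A)
      (f := fun rs : G × G => rs.2 • a) (t := A) (fun rs hrs => (Finset.mem_filter.1 hrs).2)]
    refine Finset.sum_const_nat fun p hp => ?_
    have hset : (((Finset.univ.filter P).filter fun rs => rs.2 • a ∈ A).filter fun rs => rs.2 • a = p) =
        (Finset.univ.filter fun r : G => r * z * r⁻¹ = xp p) ×ˢ (Finset.univ.filter fun s : G => s • a = p) := by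
      ext ⟨r, s⟩
      simp only [Finset.mem_filter, Finset.mem_univ, true_and, Finset.mem_product, hP, hwU]
      constructor
      · rintro ⟨⟨h1, -⟩, h3⟩; exact ⟨h3 ▸ h1, h3⟩
      · rintro ⟨h1, h3⟩; exact ⟨⟨h3.symm ▸ h1, h3.symm ▸ hp⟩, h3⟩
    rw [hset, Finset.card_product]
    obtain ⟨s₀, hs₀⟩ : ∃ s : G, s • a = p := by
      by_cases h : a = p
      · exact ⟨1, by rw [one_smul, h]⟩
      · obtain ⟨s, h1, -⟩ := exists_move hZ h (Ne.symm h)
        exact ⟨s, h1⟩
    obtain ⟨r₀, hr₀⟩ := isConj_iff.1 (isConj_involution hZ hab hodd hz (hxp p).1)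
    congr 1
    · rw [← Fintype.card_subtype, ← Nat.card_eq_fintype_card]
      refine (Nat.card_congr ((Equiv.mulLeft r₀).subtypeEquiv fun c => ?_)).symm
      show c ∈ U ↔ r₀ * c * z * (r₀ * c)⁻¹ = xp p
      constructor
      · intro hc
        have hcz : c * z = z * c := by
          have h1 := mem_stabilizer_iff.1 (hUa hc)
          by_cases hc1 : c = 1
          · rw [hc1, one_mul, mul_one]
          have hzc : z ∈ Zs := hinvZ z hzU hz
          exact (hZc c hc z hzc).eq.symm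
        calc r₀ * c * z * (r₀ * c)⁻¹ = r₀ * (c * z) * c⁻¹ * r₀⁻¹ := by group
          _ = r₀ * z * r₀⁻¹ := by rw [hcz]; group
          _ = xp p := hr₀
      · intro h
        refine hC z hzU (ne_one_involution hz) (Subgroup.mem_centralizer_singleton_iff.2 ?_)
        have h1 : r₀ * c * z * (r₀ * c)⁻¹ = r₀ * z * r₀⁻¹ := h.trans hr₀.symm
        calc c * z = r₀⁻¹ * (r₀ * c * z * (r₀ * c)⁻¹) * r₀ * c := by group
          _ = z * c := by rw [h1]; group
    · rw [← Fintype.card_subtype, ← Nat.card_eq_fintype_card]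
      refine (Nat.card_congr ((Equiv.mulLeft s₀).subtypeEquiv fun c => ?_)).symm
      show c ∈ stabilizer G a ↔ (s₀ * c) • a = p
      rw [mem_stabilizer_iff, mul_smul, ← hs₀, smul_left_cancel_iff]
  set A₀ := Finset.univ.filter fun p : Ω => Inverts g (xp p) with hA₀
  have hA₀card : A₀.card = tor g := by
    rw [← card_inverters hZ hab hn hg, ← Fintype.card_coe, ← Nat.card_eq_fintype_card]
    refine Nat.card_eq_of_bijective (fun p : A₀ => (⟨xp p.1, (Finset.mem_filter.1 p.2).2⟩ : {x : G // Inverts g x})) ⟨?_, ?_⟩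
    · intro p q he
      have he' : xp p.1 = xp q.1 := congrArg Subtype.val he
      exact Subtype.ext ((hxp q.1).2.2 p.1 (he' ▸ (hxp p.1).2.1))
    · rintro ⟨x, hx2, hxg⟩
      have ho : orderOf (x * g) = 2 := orderOf_eq_prime (by
        calc (x * g) ^ 2 = (x * g * x⁻¹) * (x * x) * g := by rw [pow_two]; group
          _ = 1 := by rw [hxg, sq_involution hx2]; group) (mul_ne_one_of_fpf hZ hn hg.1 hx2)
      obtain ⟨p, hp, hp'⟩ := fixed_unique_of_odd hZ hn ho
      have e := hxu p x ⟨hx2, hp, hp'⟩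
      exact ⟨⟨p, Finset.mem_filter.2 ⟨Finset.mem_univ _, e ▸ ⟨hx2, hxg⟩⟩⟩, Subtype.ext e.symm⟩
  have hZ1 : ∀ rs ∈ Finset.univ.filter P, (f rs = 1 ↔ rs.2 • a ∈ A₀) := by
    rintro ⟨r, s⟩ hrs
    have hm : w (r, s) ∈ U := (Finset.mem_filter.1 hrs).2
    have he := (hwU r s).1 hm
    show f (r, s) = 1 ↔ _
    simp only [f, dif_pos hm, hA₀, Finset.mem_filter, Finset.mem_univ, true_and]
    rw [← he, QuotientGroup.mk'_apply, QuotientGroup.eq_one_iff, Subgroup.mem_subgroupOf]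
    show w (r, s) ∈ Zs ↔ _
    rw [hZinv _ hm]
    have hxx := sq_involution (hz' r)
    have key : w (r, s) * w (r, s) = s⁻¹ * ((r * z * r⁻¹ * g * (r * z * r⁻¹)⁻¹) * g) * s := by
      rw [inv_eq_of_mul_eq_one_right hxx]; simp only [w]; group
    constructor
    · intro h
      refine ⟨hz' r, eq_inv_of_mul_eq_one_left ?_⟩
      rw [h] at key
      calc _ = s * (s⁻¹ * ((r * z * r⁻¹ * g * (r * z * r⁻¹)⁻¹) * g) * s) * s⁻¹ := by group
        _ = 1 := by rw [← key]; group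
    · rintro ⟨-, h⟩
      rw [key, h]; group
  haveI := Fintype.ofFinite ((U ⧸ Zs.subgroupOf U) →* ℂˣ)
  haveI := Fintype.ofFinite (U ⧸ Zs.subgroupOf U)
  have hsum : ∀ l : (U ⧸ Zs.subgroupOf U) →* ℂˣ,
      ∑ rs ∈ Finset.univ.filter P, ((l (f rs) : ℂˣ) : ℂ) = ∑ r : G, ∑ s : G,
        Cfsg.extendByZero U (fun u : U => ((l (QuotientGroup.mk' _ u) : ℂˣ) : ℂ)) (s⁻¹ * (r * z * r⁻¹ * g) * s) := by
    intro l
    rw [← Fintype.sum_prod_type', Finset.sum_filter]
    refine Finset.sum_congr rfl fun rs _ => ?_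
    rw [extendByZero_comp U]
    by_cases h : w rs ∈ U
    · rw [if_pos (show P rs from h), dif_pos (show rs.2⁻¹ * (rs.1 * z * rs.1⁻¹ * g) * rs.2 ∈ U from h)]
      simp only [f, dif_pos h]
      rfl
    · rw [if_neg (show ¬ P rs from h), dif_neg (show rs.2⁻¹ * (rs.1 * z * rs.1⁻¹ * g) * rs.2 ∉ U from h)]
  have hconst : ∀ v v' : U ⧸ Zs.subgroupOf U, v ≠ 1 → v' ≠ 1 →
      ((Finset.univ.filter P).filter fun rs => f rs = v).card = ((Finset.univ.filter P).filter fun rs => f rs = v').card :=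
    fun v v' hv hv' => const_of_coeff hV f P (fun l l' hl hl' => by
      rw [hsum, hsum]
      exact coeff_eq hZ hab hn U hUa hUcard hUfix Zs hinvZ hZn' hg hz l l' hl hl') hv hv'
  have h1 : ((Finset.univ.filter P).filter fun rs => f rs ≠ 1).card =
      Nat.card U * Nat.card (stabilizer G a) * (Fintype.card Ω - tor g) := by
    have e : ((Finset.univ.filter P).filter fun rs => f rs ≠ 1) =
        (Finset.univ.filter P).filter fun rs => rs.2 • a ∈ A₀ᶜ :=
      Finset.filter_congr fun rs hrs => by rw [Finset.mem_compl, ← hZ1 rs hrs]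
    rw [e, hcount, Finset.card_compl, hA₀card, mul_comm]
  rw [← h1, Finset.card_eq_sum_card_fiberwise (f := f) (t := (Finset.univ : Finset (U ⧸ Zs.subgroupOf U)).erase 1)
    (fun rs hrs => Finset.mem_erase.2 ⟨(Finset.mem_filter.1 hrs).2, Finset.mem_univ _⟩)]
  rcases ((Finset.univ : Finset (U ⧸ Zs.subgroupOf U)).erase 1).eq_empty_or_nonempty with h0 | ⟨v₀, hv₀⟩
  · rw [h0, Finset.sum_empty]
    exact dvd_zero _
  rw [Finset.sum_const_nat (m := (((Finset.univ.filter P).filter fun rs => f rs ≠ 1).filter fun rs => f rs = v₀).card)]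
  · rw [Finset.card_erase_of_mem (Finset.mem_univ _), Finset.card_univ, ← Nat.card_eq_fintype_card, ← Subgroup.index_eq_card]
    exact dvd_mul_right _ _
  · intro v hv
    have e : ∀ v' : U ⧸ Zs.subgroupOf U, v' ≠ 1 → (((Finset.univ.filter P).filter fun rs => f rs ≠ 1).filter fun rs => f rs = v') =
        ((Finset.univ.filter P).filter fun rs => f rs = v') := fun v' hv' => by
      ext rs
      simp only [Finset.mem_filter]
      exact ⟨fun h => ⟨h.1.1, h.2⟩, fun h => ⟨⟨h.1, fun e => hv' (h.2.symm.trans e)⟩, h.2⟩⟩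
    rw [e v (Finset.mem_erase.1 hv).1, e v₀ (Finset.mem_erase.1 hv₀).1]
    exact hconst v v₀ (Finset.mem_erase.1 hv).1 (Finset.mem_erase.1 hv₀).1

end CfsgLib.ZGrp
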