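import Mathlib
import Cfsg.Agent.ZGrp.SuzArith
import Cfsg.Agent.ZGrp.SuzDvd
import Cfsg.Agent.SuzukiTwo.Order
import Cfsg.Agent.S1138
import Cfsg.Agent.S1137

/-!
Simple Zassenhaus groups with a non-abelian 2-group as point kernel.
-/

set_option autoImplicit false

namespace CfsgLib.ZGrp

open MulAction

universe u v

variable {G : Type u} {Ω : Type v} [Group G] [Fintype G] [MulAction G Ω] [Fintype Ω]
variable (hZ : Cfsg.IsZassenhausGroup G Ω) [IsSimpleGroup G] {a b : Ω} (hab : a ≠ b)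
  (hn : Odd (Fintype.card Ω)) (U : Subgroup G)
  (hUa : U ≤ stabilizer G a) (hUcard : Nat.card U + 1 = Fintype.card Ω)
  (hUfix : ∀ u ∈ U, u ≠ 1 → ∀ c : Ω, u • c = c → c = a)
include hZ hab hn hUa hUcard hUfix

omit [Fintype G] in
theorem odd_order_pst_eq_one [Finite G] {d : G} (hd : d ∈ pst G a b) (h : d * d = 1) : d = 1 := by
  obtain ⟨m, hm⟩ : Odd (orderOf d) := (odd_pst_of_odd_degree hZ hn hab).of_dvd_nat (Subgroup.orderOf_dvd_natCard _ hd)
  have : d ^ (2 * m + 1) = d := by rw [pow_succ, pow_mul, pow_two, h, one_pow, one_mul]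
  rw [← hm, pow_orderOf_eq_one] at this
  exact this.symm

/-- The two-point stabiliser is regular on the involutions of the kernel. -/
theorem existsUnique_conj {x y : G} (hx : orderOf x = 2) (hxU : x ∈ U) (hy : orderOf y = 2) (hyU : y ∈ U) :
    ∃! d : G, d ∈ pst G a b ∧ d * x * d⁻¹ = y := by
  classical
  have hodd := odd_pst_of_odd_degree hZ hn hab
  have hinj : ∀ d ∈ pst G a b, ∀ d' ∈ pst G a b, d * x * d⁻¹ = d' * x * d'⁻¹ → d = d' := by
    intro d hd d' hd' he
    set w := d'⁻¹ * d with hw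
    have hwp : w ∈ pst G a b := Subgroup.mul_mem _ (Subgroup.inv_mem _ hd') hd
    have hwx : x * w = w * x := by
      calc x * w = d'⁻¹ * (d' * x * d'⁻¹) * d := by rw [hw]; group
        _ = w * x := by rw [← he, hw]; group
    by_contra hne
    have hw1 : w ≠ 1 := fun e => hne (inv_mul_eq_one.1 e).symm
    have h1 : w • x • b = x • b := by rw [smul_smul, ← hwx, mul_smul, (mem_pst.1 hwp).2]
    rcases eq_or_eq_of_fix hZ hab hwp hw1 h1 with h | h
    · exact hab.symm (MulAction.injective x (h.trans (mem_stabilizer_iff.1 (hUa hxU)).symm))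
    · exact hab.symm (hUfix x hxU (ne_one_involution hx) b h)
  let f : pst G a b → {z : G // orderOf z = 2 ∧ z • a = a} := fun d =>
    ⟨d * x * (d : G)⁻¹, by rw [← MulAut.conj_apply, MulEquiv.orderOf_eq, hx],
      mem_stabilizer_iff.1 ((stabilizer G a).mul_mem ((stabilizer G a).mul_mem d.2.1 (hUa hxU)) ((stabilizer G a).inv_mem d.2.1))⟩
  have hf : Function.Injective f := fun d d' he => Subtype.ext (hinj d d.2 d' d'.2 (congrArg Subtype.val he))
  obtain ⟨d, hd⟩ := ((Nat.bijective_iff_injective_and_card f).2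
    ⟨hf, (card_involutions_fixing hZ hab hodd hn a).symm⟩).2 ⟨y, hy, mem_stabilizer_iff.1 (hUa hyU)⟩
  have hd' : (d : G) * x * (d : G)⁻¹ = y := congrArg Subtype.val hd
  exact ⟨d, ⟨d.2, hd'⟩, fun d' hd'' => hinj d' hd''.1 d d.2 (hd''.2.trans hd'.symm)⟩

/-- The kernel is a Suzuki 2-group. -/
theorem isSuzukiTwoGroup_kernel (hU2 : IsPGroup 2 U) (hna : ∃ u v : U, u * v ≠ v * u) :
    Cfsg.IsSuzukiTwoGroup U := by
  classical
  have hodd := odd_pst_of_odd_degree hZ hn hab
  have hcard := card_involutions_fixing hZ hab hodd hn a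
  have he3 := three_le_card_pst hZ hab hodd
  obtain ⟨⟨x, hx, hxa⟩, ⟨y, hy, hya⟩, hxy⟩ : ∃ p q : {z : G // orderOf z = 2 ∧ z • a = a}, p ≠ q := by
    haveI := Fintype.ofFinite {z : G // orderOf z = 2 ∧ z • a = a}
    refine Fintype.one_lt_card_iff.1 ?_
    rw [← Nat.card_eq_fintype_card, hcard]; omega
  have hxU := involution_mem hZ hab hn U hUa hUcard hUfix hx hxa
  have hyU := involution_mem hZ hab hn U hUa hUcard hUfix hy hya
  refine ⟨inferInstance, hU2, hna, ⟨⟨x, hxU⟩, ⟨y, hyU⟩, fun e => hxy (Subtype.ext (congrArg (fun z : U => (z : G)) e)),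
    fun e => ne_one_involution hx (congrArg Subtype.val e), Subtype.ext (sq_involution hx),
    fun e => ne_one_involution hy (congrArg Subtype.val e), Subtype.ext (sq_involution hy)⟩, ?_⟩
  let φ : pst G a b →* MulAut U :=
    { toFun := fun d =>
        { toFun := fun u => ⟨(d : G) * u * (d : G)⁻¹, conj_kernel hZ hab U hUa hUcard hUfix (mem_pst.1 d.2).1 u.2⟩
          invFun := fun u => ⟨(d : G)⁻¹ * u * d, by
            have := conj_kernel hZ hab U hUa hUcard hUfix (x := (d : G)⁻¹) (mem_pst.1 (Subgroup.inv_mem _ d.2)).1 u.2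
            rwa [inv_inv] at this⟩
          left_inv := fun u => Subtype.ext (by simp; group)
          right_inv := fun u => Subtype.ext (by simp; group)
          map_mul' := fun u v => Subtype.ext (by simp [mul_assoc]) }
      map_one' := by ext u; simp
      map_mul' := fun d e => by ext u; simp [mul_assoc] }
  haveI := isCyclic_pst hZ hab hodd (no_normal_complement_of_simple hZ hab)
  refine ⟨φ.range, isCyclic_of_surjective φ.rangeRestrict φ.rangeRestrict_surjective, ?_⟩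
  intro p q hp hp2 hq hq2
  have hop : ∀ r : U, r ≠ 1 → r * r = 1 → orderOf (r : G) = 2 := fun r hr hr2 =>
    orderOf_eq_prime (by rw [pow_two]; exact congrArg Subtype.val hr2) fun e => hr (Subtype.ext e)
  obtain ⟨d, ⟨hdp, hd⟩, hu⟩ := existsUnique_conj hZ hab hn U hUa hUcard hUfix (hop p hp hp2) p.2 (hop q hq hq2) q.2
  refine ⟨⟨φ ⟨d, hdp⟩, ⟨_, rfl⟩⟩, Subtype.ext hd, ?_⟩
  rintro ⟨k, d', rfl⟩ hk
  have := hu d' ⟨d'.2, congrArg Subtype.val hk⟩
  exact Subtype.ext (congrArg φ (Subtype.ext this))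

/-- `q = e + 1` is the order of the centre of the kernel. -/
theorem card_center_kernel (hP : Cfsg.IsSuzukiTwoGroup U) :
    Nat.card (Subgroup.center U) = Nat.card (pst G a b) + 1 := by
  classical
  obtain ⟨hinv, hel⟩ := Cfsg.Agent.S1137.result hP
  rw [← card_involutions_fixing hZ hab (odd_pst_of_odd_degree hZ hn hab) hn a]
  haveI := Fintype.ofFinite (Subgroup.center U)
  have e : Nat.card {z : Subgroup.center U // z ≠ 1} = Nat.card {z : G // orderOf z = 2 ∧ z • a = a} := by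
    refine Nat.card_eq_of_bijective (fun z => ⟨((z.1 : U) : G), ?_, mem_stabilizer_iff.1 (hUa (z.1 : U).2)⟩) ⟨?_, ?_⟩
    · exact orderOf_eq_prime (by rw [pow_two]; exact congrArg Subtype.val (hel _ z.1.2))
        fun h => z.2 (Subtype.ext (Subtype.ext h))
    · intro z w h
      exact Subtype.ext (Subtype.ext (Subtype.ext (congrArg (fun p : {x : G // orderOf x = 2 ∧ x • a = a} => (p : G)) h)))
    · rintro ⟨x, hx, hxa⟩
      have hxU := involution_mem hZ hab hn U hUa hUcard hUfix hx hxa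
      obtain ⟨hc, hne⟩ := (hinv ⟨x, hxU⟩).1 ⟨fun h => ne_one_involution hx (congrArg Subtype.val h), Subtype.ext (sq_involution hx)⟩
      exact ⟨⟨⟨_, hc⟩, fun h => hne (congrArg Subtype.val h)⟩, rfl⟩
  rw [← e, Nat.card_eq_fintype_card, Nat.card_eq_fintype_card, Fintype.card_subtype_compl, Fintype.card_subtype_eq]
  have : 0 < Fintype.card (Subgroup.center U) := Fintype.card_pos
  omega

/-- An element commuting with an involution fixing `a` lies in the kernel. -/
theorem centralizer_involution_le {x : G} (hx : orderOf x = 2) (hxa : x • a = a) :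
    Subgroup.centralizer ({x} : Set G) ≤ U :=
  kernel_centralizer hZ hab U hUa hUcard hUfix x (involution_mem hZ hab hn U hUa hUcard hUfix hx hxa) (ne_one_involution hx)

/-- The torus index is at most `2 + 2 (|U| - q) / (q (q - 1))`. -/
theorem wgt_bound (Zs : Subgroup G) (hZle : Zs ≤ U) (hZinv : ∀ u ∈ U, (u ∈ Zs ↔ u * u = 1))
    (hsq : ∀ u ∈ U, u * u ∈ Zs) (hZc : ∀ u ∈ U, ∀ w ∈ Zs, Commute w u)
    (hU2 : IsPGroup 2 U) {g : G} (hg : IsRealFpf Ω g) :
    2 ∣ wgt g ∧ (∃ i, wgt g = 2 ^ i) ∧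
      (wgt g - 2) * Nat.card Zs * (Nat.card Zs - 1) ≤ 2 * (Nat.card U - Nat.card Zs) := by
  classical
  have hodd := odd_pst_of_odd_degree hZ hn hab
  haveI : Fact (Nat.Prime 2) := ⟨Nat.prime_two⟩
  -- move the inverting involution to one fixing `a`
  obtain ⟨hf, x', hx'⟩ := hg
  have hp : 0 < Nat.card {x : G // orderOf x = 2 ∧ x • a = a} :=
    (card_involutions_fixing hZ hab hodd hn a).symm ▸ Nat.card_pos
  obtain ⟨⟨x, hx2, hxa⟩⟩ := (Nat.card_pos_iff.1 hp).1
  obtain ⟨r, hr⟩ := isConj_iff.1 (isConj_involution hZ hab hodd hx'.1 hx2)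
  set g₁ := r * g * r⁻¹ with hg₁def
  have hg₁ : IsRealFpf Ω g₁ := isRealFpf_conj r ⟨hf, x', hx'⟩
  have hx₁ : Inverts g₁ x := ⟨hx2, by
    rw [← hr, hg₁def]
    calc r * x' * r⁻¹ * (r * g * r⁻¹) * (r * x' * r⁻¹)⁻¹ = r * (x' * g * x'⁻¹) * r⁻¹ := by group
      _ = (r * g * r⁻¹)⁻¹ := by rw [hx'.2]; group⟩
  have hw : wgt g = Nat.card (tW g₁ x) := by
    have h1 := wgt_eq hZ hab hn hg₁ hx₁
    have h2 := wgt_eq hZ hab hn ⟨hf, x', hx'⟩ hx'
    have h3 := card_class_mul hZ hab hn hg₁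
    have h4 := card_class_mul hZ hab hn ⟨hf, x', hx'⟩
    rw [hg₁def, tor_conj] at h3
    rw [← hg₁def] at h3
    have hpos : 0 < Nat.card {u : G // IsRealFpf Ω u ∧ tor u = tor g} :=
      Nat.card_pos_iff.2 ⟨⟨⟨g, ⟨hf, x', hx'⟩, rfl⟩⟩, inferInstance⟩
    have h5 := Nat.eq_of_mul_eq_mul_left hpos (h3.trans h4.symm)
    rw [← h1.1]
    exact (Nat.eq_of_mul_eq_mul_left (Nat.card_pos (α := Subgroup.centralizer ({g} : Set G))) h5).symm
  set K := tW g₁ x with hKdef
  have hKU : K ≤ U := fun k hk => centralizer_involution_le hZ hab hn U hUa hUcard hUfix hx2 hxa hk.2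
  have hxU := involution_mem hZ hab hn U hUa hUcard hUfix hx2 hxa
  have hxK : x ∈ K := by
    refine Subgroup.mem_inf.2 ⟨Subgroup.mem_normalizer_iff.2 fun s => ⟨fun hs => ?_, fun hs => ?_⟩,
      Subgroup.mem_centralizer_singleton_iff.2 rfl⟩
    · rw [inverts_centralizer hZ hn hg₁.1 hx₁ hs]
      exact Subgroup.inv_mem _ hs
    · have h := inverts_centralizer hZ hn hg₁.1 hx₁ hs
      have e : x * (x * s * x⁻¹) * x⁻¹ = s := by
        calc x * (x * s * x⁻¹) * x⁻¹ = (x * x) * s * (x * x)⁻¹ := by group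
          _ = s := by rw [sq_involution hx2]; group
      rw [e] at h
      rw [h]
      exact Subgroup.inv_mem _ hs
  refine ⟨?_, ?_, ?_⟩
  · rw [hw]
    exact hx2 ▸ Subgroup.orderOf_dvd_natCard _ hxK
  · rw [hw]
    obtain ⟨i, hi⟩ := IsPGroup.iff_card.1 (hU2.to_le hKU)
    exact ⟨i, hi⟩
  -- the elements of `K` outside the centre square to `x`
  set S : Finset G := Finset.univ.filter fun u => u ∈ U ∧ u * u = x with hS
  set K₂ : Finset G := Finset.univ.filter fun k => k ∈ K ∧ k * k = x with hK₂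
  have hKcard : Nat.card K ≤ 2 + K₂.card := by
    have hsub : (Finset.univ.filter fun k => k ∈ K) ⊆ ({1, x} : Finset G) ∪ K₂ := by
      intro k hk
      have hk' : k ∈ K := (Finset.mem_filter.1 hk).2
      simp only [hK₂, Finset.mem_union, Finset.mem_insert, Finset.mem_singleton, Finset.mem_filter, Finset.mem_univ, true_and]
      by_cases h1 : k * k = 1
      · left
        by_cases hk1 : k = 1
        · exact Or.inl hk1
        · exact Or.inr (unique_involution_tW hZ hab hn hg₁ hx₁ hk' (orderOf_eq_prime (by rw [pow_two, h1]) hk1))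
      · right
        refine ⟨hk', unique_involution_tW hZ hab hn hg₁ hx₁ (K.mul_mem hk' hk') (orderOf_eq_prime ?_ h1)⟩
        rw [pow_two]
        exact (hZinv _ (U.mul_mem (hKU hk') (hKU hk'))).1 (hsq k (hKU hk'))
    have := (Finset.card_le_card hsub).trans (Finset.card_union_le _ _)
    rw [← Fintype.card_subtype, ← Nat.card_eq_fintype_card] at this
    exact this.trans (Nat.add_le_add_right (Finset.card_le_two) _)
  -- `K₂ × Zs → S` has fibres of size at most two
  set Zf : Finset G := Finset.univ.filter fun z => z ∈ Zs with hZf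
  have hZfc : Zf.card = Nat.card Zs := by rw [Nat.card_eq_fintype_card, Fintype.card_subtype]
  have hK2S : K₂.card * Nat.card Zs ≤ 2 * S.card := by
    rw [← hZfc, ← Finset.card_product]
    refine Finset.card_le_mul_card_image_of_maps_to (f := fun p : G × G => p.1 * p.2) ?_ 2 ?_
    · rintro ⟨k, z⟩ hp
      simp only [hS, hK₂, hZf, Finset.mem_product, Finset.mem_filter, Finset.mem_univ, true_and] at hp ⊢
      refine ⟨U.mul_mem (hKU hp.1.1) (hZle hp.2), ?_⟩
      have hzk := (hZc k (hKU hp.1.1) z hp.2).eq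
      calc k * z * (k * z) = k * (z * k) * z := by group
        _ = k * k * (z * z) := by rw [hzk]; group
        _ = x := by rw [hp.1.2, (hZinv z (hZle hp.2)).1 hp.2, mul_one]
    · intro v _
      by_cases h0 : ((K₂ ×ˢ Zf).filter fun p => p.1 * p.2 = v) = ∅
      · rw [h0]; simp
      obtain ⟨⟨k₀, z₀⟩, hp₀⟩ := Finset.nonempty_iff_ne_empty.2 h0
      simp only [hK₂, hZf, Finset.mem_filter, Finset.mem_product, Finset.mem_univ, true_and] at hp₀
      refine (Finset.card_le_card (t := ({(k₀, z₀), (k₀ * x, x⁻¹ * z₀)} : Finset (G × G))) ?_).trans Finset.card_le_two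
      rintro ⟨k, z⟩ hp
      simp only [hK₂, hZf, Finset.mem_filter, Finset.mem_product, Finset.mem_univ, true_and] at hp
      have he : k₀⁻¹ * k = z₀ * z⁻¹ := by
        calc k₀⁻¹ * k = k₀⁻¹ * (k * z) * z⁻¹ := by group
          _ = z₀ * z⁻¹ := by rw [hp.2, ← hp₀.2]; group
      have hmem : k₀⁻¹ * k ∈ Zs := by rw [he]; exact Zs.mul_mem hp₀.1.2 (Zs.inv_mem hp.1.2)
      rw [Finset.mem_insert, Finset.mem_singleton]
      by_cases h1 : k₀⁻¹ * k = 1
      · left
        have hk : k = k₀ := (inv_mul_eq_one.1 h1).symm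
        rw [h1] at he
        exact Prod.ext hk (mul_inv_eq_one.1 he.symm).symm
      · right
        have hkx : k₀⁻¹ * k = x := unique_involution_tW hZ hab hn hg₁ hx₁ (K.mul_mem (K.inv_mem hp₀.1.1.1) hp.1.1.1)
          (orderOf_eq_prime (by rw [pow_two]; exact (hZinv _ (hZle hmem)).1 hmem) h1)
        refine Prod.ext (by rw [← hkx, mul_inv_cancel_left]) ?_
        show z = x⁻¹ * z₀
        rw [← hkx, he]; group
  -- all fibres of squaring have the same size
  set I : Finset G := Finset.univ.filter fun y => y ∈ U ∧ orderOf y = 2 with hI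
  have hfib : ∀ y ∈ I, (((Finset.univ.filter fun u => u ∈ U ∧ u * u ≠ 1)).filter fun u => u * u = y).card = S.card := by
    intro y hy
    obtain ⟨hyU, hy2⟩ := (Finset.mem_filter.1 hy).2
    obtain ⟨d, ⟨hd, hdx⟩, -⟩ := existsUnique_conj hZ hab hn U hUa hUcard hUfix hx2 hxU hy2 hyU
    have hda := (mem_pst.1 hd).1
    refine (Finset.card_bij' (fun u _ => d * u * d⁻¹) (fun u _ => d⁻¹ * u * d) ?_ ?_ ?_ ?_).symm
    · intro u hu
      simp only [hS, Finset.mem_filter, Finset.mem_univ, true_and] at hu ⊢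
      have e : d * u * d⁻¹ * (d * u * d⁻¹) = y := by
        calc d * u * d⁻¹ * (d * u * d⁻¹) = d * (u * u) * d⁻¹ := by group
          _ = y := by rw [hu.2, hdx]
      exact ⟨⟨conj_kernel hZ hab U hUa hUcard hUfix hda hu.1, fun h => ne_one_involution hy2 (e.symm.trans h)⟩, e⟩
    · intro u hu
      simp only [hS, Finset.mem_filter, Finset.mem_univ, true_and] at hu ⊢
      refine ⟨?_, ?_⟩
      · have := conj_kernel hZ hab U hUa hUcard hUfix (x := d⁻¹) (inv_smul_eq_iff.2 hda.symm) hu.1.1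
        rwa [inv_inv] at this
      · calc d⁻¹ * u * d * (d⁻¹ * u * d) = d⁻¹ * (u * u) * d := by group
          _ = x := by rw [hu.2, ← hdx]; group
    · intro u _; group
    · intro u _; group
  have htot : (Finset.univ.filter fun u => u ∈ U ∧ u * u ≠ 1).card = I.card * S.card := by
    rw [Finset.card_eq_sum_card_fiberwise (f := fun u => u * u) (t := I) (fun u hu => ?_)]
    · exact Finset.sum_const_nat hfib
    · obtain ⟨huU, hu1⟩ := (Finset.mem_filter.1 hu).2
      exact Finset.mem_filter.2 ⟨Finset.mem_univ _, U.mul_mem huU huU,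
        orderOf_eq_prime (by rw [pow_two]; exact (hZinv _ (U.mul_mem huU huU)).1 (hsq u huU)) hu1⟩
  have hIcard : I.card = Nat.card Zs - 1 := by
    rw [← hZfc, ← Finset.card_erase_of_mem (show (1 : G) ∈ Zf from Finset.mem_filter.2 ⟨Finset.mem_univ _, Zs.one_mem⟩)]
    congr 1
    ext y
    simp only [hI, hZf, Finset.mem_filter, Finset.mem_univ, true_and, Finset.mem_erase]
    exact ⟨fun h => ⟨ne_one_involution h.2, (hZinv y h.1).2 (sq_involution h.2)⟩,
      fun h => ⟨hZle h.2, orderOf_eq_prime (by rw [pow_two]; exact (hZinv y (hZle h.2)).1 h.2) h.1⟩⟩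
  have hnsq : (Finset.univ.filter fun u => u ∈ U ∧ u * u ≠ 1).card = Nat.card U - Nat.card Zs := by
    rw [← hZfc, Nat.card_eq_fintype_card, Fintype.card_subtype, ← Finset.card_sdiff_of_subset
      (show Zf ⊆ Finset.univ.filter (fun u => u ∈ U) from fun z hz => Finset.mem_filter.2 ⟨Finset.mem_univ _, hZle (Finset.mem_filter.1 hz).2⟩)]
    congr 1
    ext u
    simp only [hZf, Finset.mem_sdiff, Finset.mem_filter, Finset.mem_univ, true_and]
    exact ⟨fun h => ⟨h.1, fun hz => h.2 ((hZinv u h.1).1 hz)⟩, fun h => ⟨h.1, fun h2 => h.2 ((hZinv u h.1).2 h2)⟩⟩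
  rw [← hnsq, htot, hIcard, hw]
  calc (Nat.card K - 2) * Nat.card Zs * (Nat.card Zs - 1) ≤ K₂.card * Nat.card Zs * (Nat.card Zs - 1) :=
        Nat.mul_le_mul_right _ (Nat.mul_le_mul_right _ (by omega))
    _ ≤ 2 * S.card * (Nat.card Zs - 1) := Nat.mul_le_mul_right _ hK2S
    _ = 2 * ((Nat.card Zs - 1) * S.card) := by ring

omit U hUa hUcard hUfix in
/-- The weights of the tori. -/
theorem torus_sums :
    ∃ (S : Finset ℕ) (w : ℕ → ℕ),
      (∀ v ∈ S, ∃ g : G, IsRealFpf Ω g ∧ tor g = v ∧ wgt g = w v) ∧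
      (∀ v ∈ S, ∀ v' ∈ S, v ≠ v' → v.Coprime v') ∧
      (∑ v ∈ S, ((v : ℚ) - 1) / w v = ((Nat.card (pst G a b) + 1 : ℕ) : ℚ) / 2) ∧
      (∑ v ∈ S, ((v : ℚ) - 1) / ((v : ℚ) * w v) ≤
        ((Nat.card G : ℚ) - ((Fintype.card Ω : ℚ) - 1) * ((Fintype.card Ω : ℚ) - 2)) / (2 * (Nat.card G : ℚ))) := by
  classical
  set R := (Finset.univ : Finset G).filter (IsRealFpf Ω) with hR
  have hex : ∀ v ∈ R.image tor, ∃ g : G, IsRealFpf Ω g ∧ tor g = v := fun v hv => by
    obtain ⟨g, hg, rfl⟩ := Finset.mem_image.1 hv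
    exact ⟨g, (Finset.mem_filter.1 hg).2, rfl⟩
  let w : ℕ → ℕ := fun v => if h : v ∈ R.image tor then wgt (hex v h).choose else 1
  have hw : ∀ v ∈ R.image tor, ∃ g : G, IsRealFpf Ω g ∧ tor g = v ∧ wgt g = w v := fun v hv =>
    ⟨_, (hex v hv).choose_spec.1, (hex v hv).choose_spec.2, by simp only [w, dif_pos hv]⟩
  have hcl : ∀ v ∈ R.image tor, ((R.filter fun g => tor g = v).card : ℚ) * ((v : ℚ) * w v) =
      ((v : ℚ) - 1) * Nat.card G := by
    intro v hv
    obtain ⟨g, hg, hgv, hgw⟩ := hw v hv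
    have h := card_class_mul hZ hab hn hg
    rw [hgv, hgw, Nat.card_eq_fintype_card (α := {u : G // IsRealFpf Ω u ∧ tor u = v}), Fintype.card_subtype,
      ← Finset.filter_filter] at h
    have h1 : 1 ≤ v := hgv ▸ (one_lt_tor hab hg).le
    have h' : (((R.filter fun g => tor g = v).card * (v * w v) : ℕ) : ℚ) = (((v - 1) * Nat.card G : ℕ) : ℚ) := by
      exact_mod_cast h
    push_cast [Nat.cast_sub h1] at h'
    exact h'
  have hne : ∀ v ∈ R.image tor, (0 : ℚ) < v ∧ (0 : ℚ) < w v := fun v hv => by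
    obtain ⟨g, hg, hgv, hgw⟩ := hw v hv
    refine ⟨by rw [← hgv]; exact_mod_cast (Nat.card_pos (α := Subgroup.centralizer ({g} : Set G))), ?_⟩
    rw [← hgw]
    exact_mod_cast Nat.pos_of_ne_zero Subgroup.index_ne_zero_of_finite
  have hG : (0 : ℚ) < Nat.card G := by exact_mod_cast Nat.card_pos
  have hterm : ∀ v ∈ R.image tor, ((v : ℚ) - 1) / ((v : ℚ) * w v) = ((R.filter fun g => tor g = v).card : ℚ) / Nat.card G := by
    intro v hv
    rw [div_eq_div_iff (mul_pos (hne v hv).1 (hne v hv).2).ne' hG.ne', hcl v hv]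
  refine ⟨R.image tor, w, hw, ?_, ?_, ?_⟩
  · intro v hv v' hv' hvv
    obtain ⟨g, hg, hgv⟩ := hex v hv
    obtain ⟨g', hg', hgv'⟩ := hex v' hv'
    refine Nat.coprime_of_dvd fun p hp h1 h2 => hvv ?_
    obtain ⟨r, hr⟩ := conj_of_prime hZ hn hp hg hg' (hgv ▸ h1) (hgv' ▸ h2)
    rw [← hgv, ← hgv', ← tor_conj r g, tor, tor, hr]
  · have h2 := two_mul_pairs hZ hab hn
    rw [← hR, ← Finset.sum_fiberwise_of_maps_to (g := tor) (t := R.image tor) (fun g hg => Finset.mem_image_of_mem _ hg),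
      Finset.sum_congr rfl (g := fun v => v * (R.filter fun g => tor g = v).card) (fun v _ => by
        rw [Finset.sum_congr rfl (g := fun _ => v) (fun g hg => (Finset.mem_filter.1 hg).2), Finset.sum_const, smul_eq_mul, mul_comm])] at h2
    have h2' : (((2 : ℕ) * ∑ v ∈ R.image tor, v * (R.filter fun g => tor g = v).card : ℕ) : ℚ) =
        ((Nat.card G * (Nat.card (pst G a b) + 1) : ℕ) : ℚ) := by exact_mod_cast h2
    push_cast at h2' ⊢
    rw [Finset.sum_congr rfl (g := fun v : ℕ => ((v : ℚ) * ((R.filter fun g => tor g = v).card : ℚ)) / Nat.card G)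
      (fun v hv => by
        rw [mul_div_assoc, ← hterm v hv]
        field_simp [(hne v hv).1.ne']), ← Finset.sum_div, div_eq_div_iff hG.ne' two_ne_zero]
    linear_combination h2'
  · rw [Finset.sum_congr rfl hterm, ← Finset.sum_div, ← Nat.cast_sum, ← Finset.card_eq_sum_card_fiberwise
      (f := tor) (t := R.image tor) (fun g hg => Finset.mem_image_of_mem _ hg)]
    have h3 := two_mul_card_real_le hZ hab hn
    rw [Nat.card_eq_fintype_card (α := {g : G // IsRealFpf Ω g}), Fintype.card_subtype, ← hR] at h3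
    have h4 := four_le_card hZ hab
    have h3' : ((2 * R.card + (Fintype.card Ω - 1) * (Fintype.card Ω - 2) : ℕ) : ℚ) ≤ ((Nat.card G : ℕ) : ℚ) := by exact_mod_cast h3
    push_cast [Nat.cast_sub (show 1 ≤ Fintype.card Ω by omega), Nat.cast_sub (show 2 ≤ Fintype.card Ω by omega)] at h3'
    rw [div_le_div_iff₀ hG (by positivity)]
    nlinarith

/-- The structure theorem. -/
theorem suzuki_kernel (hU2 : IsPGroup 2 U) (hna : ∃ u v : U, u * v ≠ v * u) :
    ∃ k : ℕ, Odd k ∧ 1 < k ∧ Cfsg.IsSuzukiTwoGroup U ∧ Nat.card (Subgroup.center U) = 2 ^ k ∧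
      Nat.card U = (2 ^ k) ^ 2 ∧ Nat.card (pst G a b) + 1 = 2 ^ k := by
  classical
  have hodd := odd_pst_of_odd_degree hZ hn hab
  have hP := isSuzukiTwoGroup_kernel hZ hab hn U hUa hUcard hUfix hU2 hna
  have hq := card_center_kernel hZ hab hn U hUa hUcard hUfix hP
  haveI : Fact (Nat.Prime 2) := ⟨Nat.prime_two⟩
  obtain ⟨k, hk⟩ := IsPGroup.iff_card.1 (hU2.to_subgroup (Subgroup.center U))
  rw [hk] at hq
  have he3 := three_le_card_pst hZ hab hodd
  have hk2 : 2 ≤ k := by
    by_contra h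
    have : 2 ^ k ≤ 2 := by
      calc 2 ^ k ≤ 2 ^ 1 := Nat.pow_le_pow_right (by norm_num) (by omega)
        _ = 2 := by norm_num
    omega
  obtain ⟨hinv, hel⟩ := Cfsg.Agent.S1137.result hP
  obtain ⟨hsq', -, hcard, -⟩ := Cfsg.Agent.S1138.result hP
  set Zs := (Subgroup.center U).map U.subtype with hZs
  have hZle : Zs ≤ U := Subgroup.map_subtype_le _
  have hZcard : Nat.card Zs = 2 ^ k := by
    rw [← hk]
    exact (Nat.card_congr (Subgroup.equivMapOfInjective _ _ U.subtype_injective).toEquiv).symm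
  have hmem : ∀ u (hu : u ∈ U), u ∈ Zs ↔ (⟨u, hu⟩ : U) ∈ Subgroup.center U := by
    intro u hu
    rw [hZs, Subgroup.mem_map]
    exact ⟨fun ⟨v, hv, e⟩ => by rwa [show (⟨u, hu⟩ : U) = v from Subtype.ext e.symm], fun h => ⟨_, h, rfl⟩⟩
  have hZinv : ∀ u ∈ U, (u ∈ Zs ↔ u * u = 1) := by
    intro u hu
    rw [hmem u hu]
    constructor
    · exact fun h => congrArg Subtype.val (hel _ h)
    · intro h
      by_cases h1 : (⟨u, hu⟩ : U) = 1
      · rw [h1]; exact Subgroup.one_mem _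
      · exact ((hinv ⟨u, hu⟩).1 ⟨h1, Subtype.ext h⟩).1
  have hsq : ∀ u ∈ U, u * u ∈ Zs := fun u hu => (hmem _ (U.mul_mem hu hu)).2 (hsq' ⟨u, hu⟩)
  have hZc : ∀ u ∈ U, ∀ w ∈ Zs, Commute w u := by
    intro u hu w hw
    exact (congrArg Subtype.val (Subgroup.mem_center_iff.1 ((hmem w (hZle hw)).1 hw) ⟨u, hu⟩)).symm
  rw [hk] at hcard
  have hN : Fintype.card Ω = Nat.card U + 1 := hUcard.symm
  have hG := card_group hZ hab
  have he : (Nat.card (pst G a b) : ℚ) = ((2 ^ k : ℕ) : ℚ) - 1 := by rw [hq]; push_cast; ring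
  obtain ⟨S, w, hw, hcop, hsum, hA⟩ := torus_sums hZ hab hn
  rw [← hq] at hsum
  have hGq : (Nat.card G : ℚ) = ((Nat.card U : ℚ) + 1) * ((Nat.card U : ℚ) * (((2 ^ k : ℕ) : ℚ) - 1)) := by
    rw [hG, hN, Nat.add_sub_cancel]; push_cast; rw [he]; push_cast; ring
  rw [hGq, hN] at hA
  push_cast at hA
  have hqQ : (4 : ℚ) ≤ (2 : ℚ) ^ k := by
    calc (4 : ℚ) = 2 ^ 2 := by norm_num
      _ ≤ 2 ^ k := pow_le_pow_right₀ (by norm_num) hk2
  rcases hcard with h2 | h3
  · refine ⟨k, ?_, by omega, hP, hk, h2, hq.symm⟩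
    refine odd_exponent_of_tori hk2 S w ?_ ?_ hcop hsum ?_
    · intro v hv
      obtain ⟨g, hg, hgv, -⟩ := hw v hv
      rw [← hgv]
      exact ⟨odd_tor hZ hn hg, one_lt_tor hab hg, by rw [← h2, ← hN]; exact tor_dvd_degree hZ hn hg⟩
    · intro v hv
      obtain ⟨g, hg, hgv, hgw⟩ := hw v hv
      obtain ⟨h2w, ⟨i, hi⟩, hb⟩ := wgt_bound hZ hab hn U hUa hUcard hUfix Zs hZle hZinv hsq hZc hU2 hg
      refine ⟨?_, by rw [← hgw, ← hgv]; exact wgt_dvd hZ hab hn hg⟩
      rw [hZcard, h2, show (2 ^ k) ^ 2 - 2 ^ k = 2 ^ k * (2 ^ k - 1) by rw [Nat.mul_sub_one, pow_two]] at hb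
      have hb' : wgt g - 2 ≤ 2 :=
        Nat.le_of_mul_le_mul_right (by rw [← mul_assoc]; exact hb.trans (le_of_eq (by ring))) (show 0 < 2 ^ k * (2 ^ k - 1) from Nat.mul_pos (by positivity) (by omega))
      rw [← hgw, hi]
      have : i ≤ 2 := by
        by_contra hi3
        have : 2 ^ 3 ≤ 2 ^ i := Nat.pow_le_pow_right (by norm_num) (by omega)
        omega
      have : 1 ≤ i := by
        by_contra hi0
        rw [show i = 0 by omega] at hi
        omega
      rcases (by omega : i = 1 ∨ i = 2) with rfl | rfl <;> norm_num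
    · refine hA.trans (le_of_eq ?_)
      rw [h2]
      push_cast
      rw [div_eq_div_iff (mul_ne_zero two_ne_zero (mul_ne_zero (by positivity) (mul_ne_zero (by positivity) (by linarith)))) (by positivity)]
      ring
  · exfalso
    have hdvd : ∀ v ∈ S, 2 ^ k + 1 ∣ v := by
      intro v hv
      obtain ⟨g, hg, hgv, -⟩ := hw v hv
      have h := index_sub_one_dvd hZ hab hn U hUa hUcard hUfix Zs hZinv hZle hsq hZc hg
      have hidx : (Zs.subgroupOf U).index = (2 ^ k) ^ 2 := by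
        have := (Zs.subgroupOf U).card_mul_index
        rw [Nat.card_congr (Subgroup.subgroupOfEquivOfLe hZle).toEquiv, hZcard, h3, pow_succ' (2 ^ k) 2] at this
        exact Nat.eq_of_mul_eq_mul_left (by positivity) this
      rw [hidx, card_stab hZ hab, hN, Nat.add_sub_cancel, hgv] at h
      have hle : v ≤ Nat.card U + 1 := by
        rw [← hgv, ← hN]; exact Nat.le_of_dvd (by omega) (tor_dvd_degree hZ hn hg)
      rw [show (2 ^ k) ^ 2 - 1 = (2 ^ k + 1) * (2 ^ k - 1) by rw [← Nat.sq_sub_sq, one_pow]] at h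
      have he' : Nat.card (pst G a b) = 2 ^ k - 1 := by omega
      rw [he', show Nat.card U * (Nat.card U * (2 ^ k - 1)) * (Nat.card U + 1 - v) =
        (Nat.card U * Nat.card U * (Nat.card U + 1 - v)) * (2 ^ k - 1) by ring] at h
      have h1 := Nat.dvd_of_mul_dvd_mul_right (by omega) h
      have hcp : Nat.Coprime (2 ^ k + 1) (2 ^ k) := by simp
      rw [h3] at h1 hle
      have h1' := (Nat.Coprime.dvd_mul_left ((hcp.pow_right 3).mul_right (hcp.pow_right 3))).1 h1
      have hq1 : 2 ^ k + 1 ∣ (2 ^ k) ^ 3 + 1 := by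
        simpa using (Odd.nat_add_dvd_pow_add_pow (2 ^ k) 1 (show Odd 3 by decide))
      have := Nat.dvd_sub hq1 h1'
      rwa [Nat.sub_sub_self hle] at this
    obtain ⟨v, rfl⟩ : ∃ v, S = {v} := by
      rcases Finset.eq_empty_or_nonempty S with rfl | ⟨v, hv⟩
      · rw [Finset.sum_empty] at hsum
        push_cast at hsum
        linarith
      · refine ⟨v, Finset.eq_singleton_iff_unique_mem.2 ⟨hv, fun v' hv' => ?_⟩⟩
        by_contra hne
        have h1 := Nat.dvd_gcd (hdvd v' hv') (hdvd v hv)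
        rw [hcop v' hv' v hv hne] at h1
        have := Nat.le_of_dvd one_pos h1
        have : 0 < 2 ^ k := by positivity
        omega
    obtain ⟨g, hg, hgv, hgw⟩ := hw v (Finset.mem_singleton_self v)
    obtain ⟨h2w, hi, hb⟩ := wgt_bound hZ hab hn U hUa hUcard hUfix Zs hZle hZinv hsq hZc hU2 hg
    rw [Finset.sum_singleton] at hsum hA
    have hv1 : 1 ≤ v := hgv ▸ (one_lt_tor hab hg).le
    refine false_of_torus hk2 (hdvd v (Finset.mem_singleton_self v)) (hgw ▸ hi) (hgw ▸ h2w) ?_ ?_ (hA.trans (le_of_eq ?_))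
    · rw [hZcard, h3, ← hgw] at *
      have hb' : (wgt g - 2) * (2 ^ k * (2 ^ k - 1)) ≤ (2 * (2 ^ k + 1)) * (2 ^ k * (2 ^ k - 1)) := by
        rw [← mul_assoc]
        refine hb.trans (le_of_eq ?_)
        obtain ⟨j, hj⟩ : ∃ j, 2 ^ k = j + 1 := ⟨2 ^ k - 1, by omega⟩
        rw [hj, Nat.add_sub_cancel, show (j + 1) ^ 3 = (j + 1) + (j + 2) * ((j + 1) * j) by ring, Nat.add_sub_cancel_left]
        ring
      have := Nat.le_of_mul_le_mul_right hb' (Nat.mul_pos (by positivity) (by omega))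
      omega
    · have hwpos : (0 : ℚ) < w v := by
        rw [← hgw]
        exact_mod_cast Nat.pos_of_ne_zero Subgroup.index_ne_zero_of_finite
      rw [div_eq_div_iff hwpos.ne' two_ne_zero] at hsum
      have h' : ((2 * (v - 1) : ℕ) : ℚ) = ((w v * 2 ^ k : ℕ) : ℚ) := by
        push_cast [Nat.cast_sub hv1] at hsum ⊢
        linarith
      exact_mod_cast h'
    · rw [h3]
      push_cast
      rw [div_eq_div_iff (mul_ne_zero two_ne_zero (mul_ne_zero (by positivity) (mul_ne_zero (by positivity) (by linarith))))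
        (mul_ne_zero (by positivity) (by linarith))]
      ring

end CfsgLib.ZGrp
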