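import Mathlib
import Cfsg.Agent.ZGrp.SuzMain

/-!
The structure theorem from a regular normal 2-subgroup.
-/

set_option autoImplicit false

namespace CfsgLib.ZGrp

open MulAction

variable {G Ω : Type*} [Group G] [Finite G] [MulAction G Ω] [Fintype Ω]

omit [Finite G] in
/-- A regular subgroup of a point stabiliser fixes no other point. -/
theorem regular_facts {a b : Ω} (hab : a ≠ b) (F : Subgroup G) (hFle : F ≤ stabilizer G a)
    (hreg : ∀ y z : Ω, y ≠ a → z ≠ a → ∃! u : F, (u : G) • y = z) :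
    (∀ u ∈ F, u ≠ 1 → ∀ c : Ω, u • c = c → c = a) ∧ Nat.card F + 1 = Fintype.card Ω := by
  classical
  refine ⟨fun u hu hu1 c hc => ?_, ?_⟩
  · by_contra hca
    obtain ⟨v, -, hv⟩ := hreg c c hca hca
    exact hu1 (congrArg Subtype.val ((hv ⟨u, hu⟩ hc).trans (hv 1 (one_smul _ _)).symm))
  · have hne : ∀ u : F, (u : G) • b ≠ a := fun u h => hab (MulAction.injective (u : G)
      ((mem_stabilizer_iff.1 (hFle u.2)).trans h.symm))
    have hbij : Function.Bijective fun u : F => (⟨(u : G) • b, hne u⟩ : {c : Ω // c ≠ a}) := by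
      refine ⟨fun u v h => ?_, fun c => ?_⟩
      · obtain ⟨w, -, hw⟩ := hreg b ((u : G) • b) hab.symm (hne u)
        exact (hw u rfl).trans (hw v (congrArg Subtype.val h).symm).symm
      · obtain ⟨w, hw, -⟩ := hreg b c hab.symm c.2
        exact ⟨w, Subtype.ext hw⟩
    rw [Nat.card_eq_of_bijective _ hbij, Nat.card_eq_fintype_card, Fintype.card_subtype_compl, Fintype.card_subtype_eq]
    have : 0 < Fintype.card Ω := Fintype.card_pos_iff.2 ⟨a⟩
    omega

/-- The orders in a simple Zassenhaus group with non-abelian 2-group kernel. -/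
theorem suzuki_case (hZ : Cfsg.IsZassenhausGroup G Ω) [IsSimpleGroup G] {a b : Ω} (hab : a ≠ b) (U : Subgroup G)
    (hUle : U ≤ stabilizer G a) (hreg : ∀ y z : Ω, y ≠ a → z ≠ a → ∃! u : U, (u : G) • y = z)
    (hU2 : IsPGroup 2 U) (hna : ∃ u v : U, u * v ≠ v * u) :
    ∃ k : ℕ, Odd k ∧ 1 < k ∧ Cfsg.IsSuzukiTwoGroup U ∧ Nat.card (Subgroup.center U) = 2 ^ k ∧
      Nat.card U = (2 ^ k) ^ 2 ∧ Nat.card (pst G a b) + 1 = 2 ^ k ∧ Fintype.card Ω = (2 ^ k) ^ 2 + 1 ∧
      IsCyclic (pst G a b) := by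
  classical
  haveI := Fintype.ofFinite G
  obtain ⟨hfix, hcard⟩ := regular_facts hab U hUle hreg
  haveI : Fact (Nat.Prime 2) := ⟨Nat.prime_two⟩
  obtain ⟨i, hi⟩ := IsPGroup.iff_card.1 hU2
  have hn : Odd (Fintype.card Ω) := by
    obtain ⟨u, v, huv⟩ := hna
    have hi0 : i ≠ 0 := by
      rintro rfl
      rw [pow_zero] at hi
      haveI := (Nat.card_eq_one_iff_unique.1 hi).1
      exact huv (Subsingleton.elim _ _)
    rw [← hcard, hi, Nat.odd_add_one, Nat.not_odd_iff_even]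
    exact Nat.even_pow.2 ⟨by decide, hi0⟩
  obtain ⟨k, h1, h2, h3, h4, h5, h6⟩ := suzuki_kernel hZ hab hn U hUle hcard hfix hU2 hna
  exact ⟨k, h1, h2, h3, h4, h5, h6, by rw [← hcard, h5],
    isCyclic_pst hZ hab (odd_pst_of_odd_degree hZ hn hab) (no_normal_complement_of_simple hZ hab)⟩

/-- A Suzuki order. -/
theorem isSuzuki_of_kernel (hZ : Cfsg.IsZassenhausGroup G Ω) [IsSimpleGroup G] {a b : Ω} (hab : a ≠ b) (U : Subgroup G)
    (hUle : U ≤ stabilizer G a) (hreg : ∀ y z : Ω, y ≠ a → z ≠ a → ∃! u : U, (u : G) • y = z)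
    (hU2 : IsPGroup 2 U) (hna : ∃ u v : U, u * v ≠ v * u) : Cfsg.IsSuzuki G := by
  obtain ⟨k, hk, hk1, -, -, hU, he, hN, -⟩ := suzuki_case hZ hab U hUle hreg hU2 hna
  obtain ⟨m, rfl⟩ := hk
  refine ⟨inferInstance, m, by omega, ?_⟩
  rw [card_group hZ hab, hN, Nat.add_sub_cancel, Nat.eq_sub_of_add_eq he]
  ring

end CfsgLib.ZGrp
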